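import Groth.Agent.H98.Bass0.Socle

set_option autoImplicit false
universe u v

namespace Groth.Agent.H98.Bass0

open IsLocalRing

section Loc

variable {R : Type u} [CommRing R] (p : Ideal R) [p.IsPrime]
variable {N : Type v} [AddCommGroup N] [Module R N]

theorem mk_eq_zero_iff' (y : N) (s : p.primeCompl) :
    LocalizedModule.mk y s = 0 ↔ ∃ t : R, t ∉ p ∧ t • y = 0 := by
  rw [← LocalizedModule.zero_mk (1 : p.primeCompl), LocalizedModule.mk_eq]
  constructor
  · rintro ⟨u, hu⟩
    refine ⟨(u : R), u.2, ?_⟩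
    rw [smul_zero, smul_zero, one_smul] at hu
    exact hu
  · rintro ⟨t, ht, hty⟩
    refine ⟨⟨t, ht⟩, ?_⟩
    rw [smul_zero, smul_zero, one_smul]
    exact hty

theorem algebraMap_smul_mk (r : R) (y : N) (s : p.primeCompl) :
    (algebraMap R (Localization.AtPrime p) r) • (LocalizedModule.mk y s : LocalizedModule p.primeCompl N)
      = LocalizedModule.mk (r • y) s := by
  rw [algebraMap_smul, LocalizedModule.smul'_mk]

/-- common annihilating denominators for a finite set -/
theorem exists_common_smul_eq_zero (y₀ : N) (G : Finset R)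
    (h : ∀ r ∈ G, ∃ t : R, t ∉ p ∧ t • r • y₀ = 0) :
    ∃ t : R, t ∉ p ∧ ∀ r ∈ G, t • r • y₀ = 0 := by
  classical
  induction G using Finset.induction_on with
  | empty => exact ⟨1, fun h1 => (Ideal.ne_top_iff_one p).mp (Ideal.IsPrime.ne_top ‹_›) h1, by simp⟩
  | insert a G' ha ih =>
    obtain ⟨t₁, ht₁, h₁⟩ := ih (fun r hr => h r (Finset.mem_insert_of_mem hr))
    obtain ⟨t₂, ht₂, h₂⟩ := h a (Finset.mem_insert_self a G')
    refine ⟨t₁ * t₂, fun hmem => ?_, ?_⟩
    · rcases Ideal.IsPrime.mem_or_mem ‹_› hmem with h' | h'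
      · exact ht₁ h'
      · exact ht₂ h'
    · intro r hr
      rcases Finset.mem_insert.mp hr with rfl | hr'
      · rw [mul_smul, h₂, smul_zero]
      · rw [mul_comm, mul_smul, h₁ r hr', smul_zero]

/-- Lemma A: a nonzero socle element of `N_p` is represented by `y/s` with `ann y = p`. -/
theorem exists_rep_of_mem_soc (hp : p.FG) (x : LocalizedModule p.primeCompl N)
    (hx : x ∈ soc (Localization.AtPrime p) (LocalizedModule p.primeCompl N)) (hx0 : x ≠ 0) :
    ∃ (y : N) (s : p.primeCompl), x = LocalizedModule.mk y s ∧ (∀ r ∈ p, r • y = 0) ∧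
      ∀ t : R, t ∉ p → t • y ≠ 0 := by
  classical
  induction x using LocalizedModule.induction_on with
  | h y₀ s₀ =>
    rw [mem_soc_iff] at hx
    obtain ⟨G, hG⟩ := hp
    have h1 : ∀ r ∈ G, ∃ t : R, t ∉ p ∧ t • r • y₀ = 0 := by
      intro r hr
      have hrp : r ∈ p := by
        rw [← hG]
        exact Ideal.subset_span hr
      have hmem : algebraMap R (Localization.AtPrime p) r ∈ maximalIdeal (Localization.AtPrime p) :=
        (IsLocalization.AtPrime.to_map_mem_maximal_iff (Localization.AtPrime p) p r).mpr hrp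
      have := hx _ hmem
      rw [algebraMap_smul_mk, mk_eq_zero_iff'] at this
      exact this
    obtain ⟨t, ht, htG⟩ := exists_common_smul_eq_zero p y₀ G h1
    refine ⟨t • y₀, ⟨t, ht⟩ * s₀, ?_, ?_, ?_⟩
    · exact (LocalizedModule.mk_cancel_common_left (⟨t, ht⟩ : p.primeCompl) s₀ y₀).symm
    · intro r hr
      have hle : p ≤ LinearMap.ker (LinearMap.toSpanSingleton R N (t • y₀)) := by
        rw [← hG, Ideal.span_le]
        intro r' hr'
        rw [SetLike.mem_coe, LinearMap.mem_ker, LinearMap.toSpanSingleton_apply, smul_comm]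
        exact htG r' hr'
      have := hle hr
      rwa [LinearMap.mem_ker, LinearMap.toSpanSingleton_apply] at this
    · intro t' ht' hzero
      apply hx0
      rw [mk_eq_zero_iff']
      refine ⟨t' * t, fun hmem => ?_, ?_⟩
      · rcases Ideal.IsPrime.mem_or_mem ‹_› hmem with h' | h'
        · exact ht' h'
        · exact ht h'
      · rw [mul_smul]
        exact hzero

/-- Lemma B: the socle of `N_p` lies in the localization of an essential submodule. -/
theorem soc_le_range_map (hp : p.FG) {M : Type v} [AddCommGroup M] [Module R M] (e : M →ₗ[R] N)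
    (hess : ∀ y : N, y ≠ 0 → ∃ a : R, a • y ≠ 0 ∧ a • y ∈ LinearMap.range e) :
    soc (Localization.AtPrime p) (LocalizedModule p.primeCompl N) ≤
      LinearMap.range (LocalizedModule.map p.primeCompl e) := by
  intro x hx
  by_cases hx0 : x = 0
  · rw [hx0]
    exact Submodule.zero_mem _
  obtain ⟨y, s, rfl, hpy, hty⟩ := exists_rep_of_mem_soc p hp x hx hx0
  have hy0 : y ≠ 0 := by
    intro h
    apply hty 1 (fun h1 => (Ideal.ne_top_iff_one p).mp (Ideal.IsPrime.ne_top ‹_›) h1)
    rw [h, smul_zero]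
  obtain ⟨a, hay, ⟨m, hm⟩⟩ := hess y hy0
  have hap : a ∉ p := fun h => hay (hpy a h)
  refine ⟨LocalizedModule.mk m (⟨a, hap⟩ * s), ?_⟩
  rw [LocalizedModule.map_mk, hm]
  exact LocalizedModule.mk_cancel_common_left (⟨a, hap⟩ : p.primeCompl) s y

end Loc

end Groth.Agent.H98.Bass0
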