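import Groth.Agent.H98.Bass0.StarLocalSoc
import Groth.Agent.H98.GrStar.PrimeHull

set_option autoImplicit false
universe u

/-!
# More on socles over *local rings
-/

namespace Groth.Agent.H98.Bass0

open IsLocalRing Groth.Agent.H98.GrStar

section Ungraded

variable {R : Type u} [CommRing R] {E : Type u} [AddCommGroup E] [Module R E]

/-- an element of an essential extension of `R ⧸ p` with prime annihilator `q'` has `q' = p` -/
theorem ann_prime_eq_of_ess (p : Ideal R) [p.IsPrime] (e : (R ⧸ p) →ₗ[R] E)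
    (hess : InjHull.IsEssentialInj e) (y : E) (q' : Ideal R)
    [hq' : q'.IsPrime] (hy : ∀ r : R, r • y = 0 ↔ r ∈ q') : q' = p := by
  have hy0 : y ≠ 0 := by
    intro h0
    apply hq'.ne_top
    rw [Ideal.eq_top_iff_one, ← hy, h0, smul_zero]
  have hspan : Submodule.span R {y} ≠ ⊥ := by
    intro h0
    apply hy0
    have : y ∈ Submodule.span R {y} := Submodule.mem_span_singleton_self y
    rw [h0] at this
    exact (Submodule.mem_bot R).mp this
  obtain ⟨x, ⟨hxy, s', hsx⟩, hx0⟩ := (Submodule.ne_bot_iff _).mp (hess.essential _ hspan)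
  obtain ⟨s, rfl⟩ := Ideal.Quotient.mk_surjective s'
  obtain ⟨r, rfl⟩ := Submodule.mem_span_singleton.mp hxy
  have hs : s ∉ p := by
    rw [← e_ne_zero_iff p e hess.injective s, hsx]
    exact hx0
  have hr : r ∉ q' := by
    intro h
    apply hx0
    exact (hy r).mpr h
  ext t
  rw [← smul_e_eq_zero_iff p e hess.injective s hs t, hsx, smul_smul, hy]
  constructor
  · intro h
    exact Ideal.mul_mem_right _ _ h
  · intro h
    exact (hq'.mem_or_mem h).resolve_right hr

/-- an essential extension of `R ⧸ p` is `p`-torsion (Noetherian case) -/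
theorem gam_eq_top_of_ess [IsNoetherianRing R] (p : Ideal R) [p.IsPrime] (e : (R ⧸ p) →ₗ[R] E)
    (hess : InjHull.IsEssentialInj e) : GrLC.gam p E = ⊤ := by
  rw [eq_top_iff]
  intro x _
  let N : Submodule R E := Submodule.span R {x}
  have : Module.Finite R N := Module.Finite.span_singleton R x
  have hmin : ∀ P ∈ (Module.annihilator R N).minimalPrimes, P = p := by
    intro P hP
    have hass := Module.associatedPrimes.minimalPrimes_annihilator_subset_associatedPrimes R N hP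
    obtain ⟨hPprime, z, hz⟩ := (isAssociatedPrime_iff (M := N)).mp hass
    have := hPprime
    refine ann_prime_eq_of_ess p e hess (z : E) P ?_
    intro r
    rw [hz, Submodule.mem_colon_singleton, Submodule.mem_bot]
    constructor
    · intro h
      apply Subtype.ext
      exact h
    · intro h
      exact congrArg Subtype.val h
  have hrad : p ≤ (Module.annihilator R N).radical := by
    rw [← Ideal.sInf_minimalPrimes]
    intro r hr
    rw [Submodule.mem_sInf]
    intro P hP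
    rw [hmin P hP]
    exact hr
  obtain ⟨k, hk⟩ := Ideal.exists_pow_le_of_le_radical_of_fg hrad
    (IsNoetherian.noetherian p)
  refine ⟨k, fun r hr => ?_⟩
  have h1 : r ∈ Module.annihilator R N := hk hr
  have h2 := Module.mem_annihilator.mp h1 ⟨x, Submodule.mem_span_singleton_self x⟩
  exact congrArg Subtype.val h2

end Ungraded

section StarLocal2

variable {ι : Type} [AddCommGroup ι] [DecidableEq ι]
variable {R : Type u} [CommRing R] [IsNoetherianRing R] (𝒜 : ι → AddSubgroup R) [GradedRing 𝒜]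
variable {m : HomogeneousIdeal 𝒜} (hm : GrLC.IsStarLocal 𝒜 m)

include hm in
/-- a homogeneous element outside `m` is invertible modulo `m` -/
theorem exists_mul_add_eq_one {d : ι} {w : R} (hw : w ∈ 𝒜 d) (hwm : w ∉ m.toIdeal) :
    ∃ a ∈ m.toIdeal, ∃ b : R, a + b * w = 1 := by
  have hI : (m.toIdeal ⊔ Ideal.span {w}).IsHomogeneous 𝒜 := by
    apply Ideal.IsHomogeneous.sup m.isHomogeneous
    apply Ideal.homogeneous_span
    intro x hx
    rw [Set.mem_singleton_iff] at hx
    rw [hx]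
    exact ⟨d, hw⟩
  have htop : m.toIdeal ⊔ Ideal.span {w} = ⊤ := by
    by_contra hne
    have hle := le_of_isStarLocal 𝒜 hm _ hI hne
    apply hwm
    exact hle (Submodule.mem_sup_right (Ideal.subset_span rfl))
  have h1 : (1 : R) ∈ m.toIdeal ⊔ Ideal.span {w} := by rw [htop]; exact Submodule.mem_top
  obtain ⟨a, ha, c, hc, hac⟩ := Submodule.mem_sup.mp h1
  obtain ⟨b, rfl⟩ := Ideal.mem_span_singleton'.mp hc
  exact ⟨a, ha, b, hac⟩

include hm in
/-- (L0) the *maximal ideal of a *local ring is prime -/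
theorem isPrime_of_isStarLocal [Module.Free ℤ ι] [Module.Finite ℤ ι] : m.toIdeal.IsPrime := by
  apply isPrime_of_homogeneous 𝒜 m.toIdeal m.isHomogeneous (ne_top_of_isStarLocal 𝒜 hm)
  rintro x y ⟨dx, hx⟩ hy hxy
  by_cases hxm : x ∈ m.toIdeal
  · exact Or.inl hxm
  · right
    obtain ⟨a, ha, b, hab⟩ := exists_mul_add_eq_one 𝒜 hm hx hxm
    have : y = a * y + b * (x * y) := by
      rw [← mul_assoc, ← add_mul, hab, one_mul]
    rw [this]
    exact Ideal.add_mem _ (Ideal.mul_mem_right _ _ ha) (Ideal.mul_mem_left _ _ hxy)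

variable {Z : Type u} [AddCommGroup Z] [Module R Z] (𝒵 : ι → AddSubgroup Z)
  [DirectSum.Decomposition 𝒵] [SetLike.GradedSMul 𝒜 𝒵]

/-- (L3') a homogeneous submodule meeting the `m`-torsion contains a nonzero homogeneous socle
element -/
theorem exists_homogeneous_socle_in (Q : Submodule R Z) (hQ : Q.IsHomogeneous 𝒵)
    (hne : GrLC.gam m.toIdeal Z ⊓ Q ≠ ⊥) :
    ∃ (g : ι) (y : Z), y ∈ 𝒵 g ∧ y ∈ Q ∧ y ≠ 0 ∧ ∀ r ∈ m.toIdeal, r • y = 0 := by
  classical
  obtain ⟨j, x, hxG, hxj, hx0⟩ := exists_homogeneous_ne_zero 𝒵 _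
    (inf_isHomogeneous 𝒵 _ _ (gam_isHomogeneous 𝒜 𝒵 m) hQ) hne
  obtain ⟨⟨k, hk⟩, hxQ⟩ := hxG
  have hex : ∃ k : ℕ, ∀ r ∈ m.toIdeal ^ k, r • x = 0 := ⟨k, hk⟩
  let k₀ := Nat.find hex
  have hk₀ : ∀ r ∈ m.toIdeal ^ k₀, r • x = 0 := Nat.find_spec hex
  have hk₀pos : k₀ ≠ 0 := by
    intro h0
    apply hx0
    have := hk₀ 1 (by rw [h0, pow_zero, Ideal.one_eq_top]; exact Submodule.mem_top)
    rwa [one_smul] at this
  obtain ⟨k₁, hk₁⟩ := Nat.exists_eq_succ_of_ne_zero hk₀pos
  have hnot : ¬ ∀ r ∈ m.toIdeal ^ k₁, r • x = 0 := by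
    intro h
    have := Nat.find_min' hex h
    change k₀ ≤ k₁ at this
    omega
  push Not at hnot
  obtain ⟨r, hr, hrx⟩ := hnot
  have hpow := pow_isHomogeneous 𝒜 m.toIdeal m.isHomogeneous k₁
  have hcomp : ∃ d, ((DirectSum.decompose 𝒜 r d : 𝒜 d) : R) • x ≠ 0 := by
    by_contra hcon
    push Not at hcon
    apply hrx
    rw [← DirectSum.sum_support_decompose 𝒜 r, Finset.sum_smul]
    exact Finset.sum_eq_zero (fun d _ => hcon d)
  obtain ⟨d, hd⟩ := hcomp
  refine ⟨d + j, ((DirectSum.decompose 𝒜 r d : 𝒜 d) : R) • x, ?_, Q.smul_mem _ hxQ, hd, ?_⟩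
  · have := SetLike.GradedSMul.smul_mem (A := 𝒜) (B := 𝒵)
      (SetLike.coe_mem (DirectSum.decompose 𝒜 r d)) hxj
    rwa [vadd_eq_add] at this
  · intro s hs
    rw [← mul_smul]
    apply hk₀
    rw [hk₁, pow_succ']
    exact Ideal.mul_mem_mul hs (hpow d hr)

variable [m.toIdeal.IsPrime]

include hm in
/-- if `y'/1` is a multiple of `y₀/1` in `Z_m` (both homogeneous socle elements), then `y'` is a
multiple of `y₀` -/
theorem mem_span_of_mk_eq_smul {g₀ g' : ι} {y₀ y' : Z} (hy₀ : y₀ ∈ 𝒵 g₀) (hy' : y' ∈ 𝒵 g')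
    (hmy' : ∀ r ∈ m.toIdeal, r • y' = 0) (a : Localization.AtPrime m.toIdeal)
    (h : (LocalizedModule.mk y' 1 : LocalizedModule m.toIdeal.primeCompl Z) =
      a • LocalizedModule.mk y₀ 1) : y' ∈ Submodule.span R {y₀} := by
  classical
  obtain ⟨r, s, rfl⟩ := IsLocalization.exists_mk'_eq m.toIdeal.primeCompl a
  rw [mk'_smul_mk'', mul_one, LocalizedModule.mk_eq] at h
  obtain ⟨u, hu⟩ := h
  -- `w y' = r' y₀` with `w ∉ m`
  set w : R := (u : R) * (s : R) with hw
  set r' : R := (u : R) * r with hr'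
  have hwy : w • y' = r' • y₀ := by
    have h1 : (u : R) • (s : R) • y' = (u : R) • (1 : R) • r • y₀ := hu
    rw [hw, hr', mul_smul, mul_smul, h1, one_smul]
  have hwm : w ∉ m.toIdeal := by
    intro hmem
    rcases Ideal.IsPrime.mem_or_mem ‹_› hmem with h' | h'
    · exact u.2 h'
    · exact s.2 h'
  -- a homogeneous component of `w` outside `m`
  have hcomp : ∃ d, ((DirectSum.decompose 𝒜 w d : 𝒜 d) : R) ∉ m.toIdeal := by
    by_contra hcon
    push Not at hcon
    apply hwm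
    rw [← DirectSum.sum_support_decompose 𝒜 w]
    exact Ideal.sum_mem _ (fun d _ => hcon d)
  obtain ⟨d, hd⟩ := hcomp
  have h1 := decompose_smul_of_mem 𝒜 𝒵 hy' w d
  have h2 := decompose_smul_of_mem 𝒜 𝒵 hy₀ r' (d + g' - g₀)
  rw [sub_add_cancel] at h2
  rw [hwy, h2] at h1
  -- `w_d y' = c y₀`
  obtain ⟨a₀, ha₀, b, hab⟩ := exists_mul_add_eq_one 𝒜 hm (SetLike.coe_mem (DirectSum.decompose 𝒜 w d)) hd
  have : y' = (b * ((DirectSum.decompose 𝒜 r' (d + g' - g₀) : 𝒜 (d + g' - g₀)) : R)) • y₀ := by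
    have h3 : y' = (a₀ + b * ((DirectSum.decompose 𝒜 w d : 𝒜 d) : R)) • y' := by rw [hab, one_smul]
    rw [add_smul, hmy' a₀ ha₀, zero_add, mul_smul, ← h1, ← mul_smul] at h3
    exact h3
  rw [this]
  exact Submodule.smul_mem _ _ (Submodule.mem_span_singleton_self _)

end StarLocal2

end Groth.Agent.H98.Bass0
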