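import Mathlib

set_option autoImplicit false
universe u

/-!
# `k(p) ≅ (R/p)_p` as `R_p`-modules
-/

namespace Groth.Agent.H98.Bass0

open IsLocalRing

section ResField

variable {R : Type u} [CommRing R] (p : Ideal R) [p.IsPrime]

/-- the canonical map `R/p → k(p)` -/
noncomputable def toRes : (R ⧸ p) →ₗ[R] p.ResidueField :=
  (Algebra.linearMap (R ⧸ p) p.ResidueField).restrictScalars R

theorem toRes_mk (r : R) : toRes p (Ideal.Quotient.mk p r) = algebraMap R p.ResidueField r := rfl

theorem toRes_injective : Function.Injective (toRes p) :=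
  p.injective_algebraMap_quotient_residueField

instance isLocalizedModule_toRes : IsLocalizedModule p.primeCompl (toRes p) where
  map_units s := by
    rw [Module.End.isUnit_iff]
    have hne : algebraMap R p.ResidueField (s : R) ≠ 0 := by
      rw [Ne, Ideal.algebraMap_residueField_eq_zero]
      exact s.2
    constructor
    · intro a b hab
      simp only [Module.algebraMap_end_apply] at hab
      rw [Algebra.smul_def, Algebra.smul_def] at hab
      exact mul_left_cancel₀ hne hab
    · intro b
      refine ⟨(algebraMap R p.ResidueField (s : R))⁻¹ * b, ?_⟩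
      simp only [Module.algebraMap_end_apply]
      rw [Algebra.smul_def, ← mul_assoc, mul_inv_cancel₀ hne, one_mul]
  surj y := by
    obtain ⟨x, rfl⟩ := residue_surjective y
    obtain ⟨r, s, rfl⟩ := IsLocalization.exists_mk'_eq p.primeCompl x
    refine ⟨⟨Ideal.Quotient.mk p r, s⟩, ?_⟩
    rw [toRes_mk, Submonoid.smul_def, Algebra.smul_def,
      IsScalarTower.algebraMap_apply R (Localization.AtPrime p) p.ResidueField,
      IsScalarTower.algebraMap_apply R (Localization.AtPrime p) p.ResidueField,
      ResidueField.algebraMap_eq, ← map_mul, IsLocalization.mk'_spec']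
  exists_of_eq {x y} h := ⟨1, by rw [toRes_injective p h]⟩

/-- `(R/p)_p ≃ k(p)` as `R_p`-modules -/
noncomputable def locQuotEquivRes :
    LocalizedModule p.primeCompl (R ⧸ p) ≃ₗ[Localization.AtPrime p] p.ResidueField :=
  (IsLocalizedModule.iso p.primeCompl (toRes p)).extendScalarsOfIsLocalization p.primeCompl
    (Localization.AtPrime p)

end ResField

end Groth.Agent.H98.Bass0
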