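import Groth.Agent.H98.GrStar.Ess
import Groth.Agent.H98.GrStar.SubQuot

set_option autoImplicit false
universe u

namespace Groth.Agent.H98.Bass0

open Groth.Agent.H98.GrStar

section EssIn

variable {ι : Type} [AddCommGroup ι] [DecidableEq ι]
variable {R : Type u} [CommRing R] (𝒜 : ι → AddSubgroup R) [GradedRing 𝒜]
variable {L : Type u} [AddCommGroup L] [Module R L] (𝓛 : ι → AddSubgroup L)
  [DirectSum.Decomposition 𝓛] [SetLike.GradedSMul 𝒜 𝓛]
variable {X : Type u} [AddCommGroup X] [Module R X] (𝒳 : ι → AddSubgroup X)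
  [DirectSum.Decomposition 𝒳] [SetLike.GradedSMul 𝒜 𝒳]
variable {Y : Type u} [AddCommGroup Y] [Module R Y] (𝒴 : ι → AddSubgroup Y)
  [DirectSum.Decomposition 𝒴] [SetLike.GradedSMul 𝒜 𝒴]

include 𝒜 in
omit [SetLike.GradedSMul 𝒜 𝒴] [SetLike.GradedSMul 𝒜 𝓛] in
theorem exists_smul_mem_range_of_ess_in (j : X →ₗ[R] L) (hj : Function.Injective j)
    (hjgr : GrLC.IsGrHom 𝒳 𝓛 j) (f : Y →ₗ[R] X) (hf : Function.Injective f)
    (hfgr : GrLC.IsGrHom 𝒴 𝒳 f)
    (hess : ∀ Q : Submodule R L, Q.IsHomogeneous 𝓛 → Q ≤ LinearMap.range j → Q ≠ ⊥ →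
      Q ⊓ LinearMap.range (j ∘ₗ f) ≠ ⊥)
    (x : X) (hx0 : x ≠ 0) : ∃ r : R, r • x ≠ 0 ∧ r • x ∈ LinearMap.range f := by
  classical
  have hE : GrLC.IsStarEss 𝒴 𝒳 f := by
    refine ⟨hf, hfgr, ?_⟩
    intro P hP hPne
    have hQhom : (P.map j).IsHomogeneous 𝓛 := by
      rintro i _ ⟨y, hy, rfl⟩
      rw [decompose_grHom 𝒳 𝓛 j hjgr y i]
      exact ⟨_, hP i hy, rfl⟩
    have hQle : P.map j ≤ LinearMap.range j := by
      rintro _ ⟨y, _, rfl⟩
      exact ⟨y, rfl⟩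
    have hQne : P.map j ≠ ⊥ := by
      intro h
      apply hPne
      rw [eq_bot_iff]
      intro y hy
      have h3 : j y ∈ P.map j := ⟨y, hy, rfl⟩
      rw [h, Submodule.mem_bot] at h3
      rw [Submodule.mem_bot]
      exact hj (by rw [h3, map_zero])
    have h1 := hess _ hQhom hQle hQne
    obtain ⟨z, hz, hz0⟩ := (Submodule.ne_bot_iff _).mp h1
    obtain ⟨⟨y, hyP, rfl⟩, ⟨w, hw⟩⟩ := hz
    intro hbot
    have hmem : y ∈ P ⊓ LinearMap.range f := by
      refine ⟨hyP, ⟨w, ?_⟩⟩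
      apply hj
      rw [← hw]
      rfl
    rw [hbot, Submodule.mem_bot] at hmem
    apply hz0
    rw [hmem, map_zero]
  have hE' := isEssentialInj_of_isStarEss 𝒜 𝒴 𝒳 f hE
  have hspan : Submodule.span R {x} ≠ ⊥ := by
    intro h
    apply hx0
    have : x ∈ Submodule.span R {x} := Submodule.mem_span_singleton_self _
    rwa [h, Submodule.mem_bot] at this
  have h2 := hE'.essential _ hspan
  obtain ⟨z, hz, hz0⟩ := (Submodule.ne_bot_iff _).mp h2
  obtain ⟨hz1, hz2⟩ := hz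
  obtain ⟨r, rfl⟩ := Submodule.mem_span_singleton.mp hz1
  exact ⟨r, hz0, hz2⟩

include 𝒜 in
/-- `*essential` inside a homogeneous submodule `J` implies essential inside `J`. -/
theorem exists_smul_mem_of_ess_in (U J : Submodule R L) (hU : U.IsHomogeneous 𝓛)
    (hJ : J.IsHomogeneous 𝓛) (hUJ : U ≤ J)
    (hess : ∀ Q : Submodule R L, Q.IsHomogeneous 𝓛 → Q ≤ J → Q ≠ ⊥ → Q ⊓ U ≠ ⊥)
    (x : L) (hxJ : x ∈ J) (hx0 : x ≠ 0) : ∃ r : R, r • x ≠ 0 ∧ r • x ∈ U := by
  classical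
  have hJr : (LinearMap.range J.subtype).IsHomogeneous 𝓛 := by
    rw [Submodule.range_subtype]; exact hJ
  have hUr : (LinearMap.range U.subtype).IsHomogeneous 𝓛 := by
    rw [Submodule.range_subtype]; exact hU
  letI iJ1 : DirectSum.Decomposition (preGr 𝓛 J.subtype) :=
    (preGr_isInternal 𝓛 J.subtype J.injective_subtype hJr).chooseDecomposition
  letI iU1 : DirectSum.Decomposition (preGr 𝓛 U.subtype) :=
    (preGr_isInternal 𝓛 U.subtype U.injective_subtype hUr).chooseDecomposition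
  haveI iJ2 : SetLike.GradedSMul 𝒜 (preGr 𝓛 J.subtype) :=
    (subGMod 𝒜 𝓛 J.subtype J.injective_subtype hJr).gsmul
  have hx0' : (⟨x, hxJ⟩ : J) ≠ 0 := fun h => hx0 (congrArg Subtype.val h)
  have hrange : LinearMap.range (J.subtype ∘ₗ Submodule.inclusion hUJ) = U := by
    rw [Submodule.subtype_comp_inclusion, Submodule.range_subtype]
  obtain ⟨r, hr0, ⟨w, hw⟩⟩ := exists_smul_mem_range_of_ess_in 𝒜 𝓛 (preGr 𝓛 J.subtype)
    (preGr 𝓛 U.subtype) J.subtype J.injective_subtype (fun h y hy => hy)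
    (Submodule.inclusion hUJ) (Submodule.inclusion_injective hUJ) (fun h y hy => hy)
    (by
      intro Q hQ hQJ hQ0
      rw [Submodule.range_subtype] at hQJ
      rw [hrange]
      exact hess Q hQ hQJ hQ0)
    ⟨x, hxJ⟩ hx0'
  refine ⟨r, fun h => hr0 (Subtype.ext h), ?_⟩
  have : r • x = ((Submodule.inclusion hUJ w : J) : L) := by rw [hw]; rfl
  rw [this]
  exact w.2

end EssIn

end Groth.Agent.H98.Bass0
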