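import Groth.Agent.H98.Bass0.Indep
import Groth.Agent.H98.Bass0.EssIn

set_option autoImplicit false
universe u

namespace Groth.Agent.H98.Bass0

open IsLocalRing Groth.Agent.H98.GrStar

theorem mk'_smul_mk'' {R : Type u} [CommRing R] (q : Ideal R) [q.IsPrime] {N : Type u}
    [AddCommGroup N] [Module R N] (r : R) (m : N) (s t : q.primeCompl) :
    (IsLocalization.mk' (Localization.AtPrime q) r s) •
      (LocalizedModule.mk m t : LocalizedModule q.primeCompl N) = LocalizedModule.mk (r • m) (s * t) := by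
  rw [← Localization.mk_eq_mk']
  exact LocalizedModule.mk_smul_mk r m s t

section Count

variable {ι : Type} [AddCommGroup ι] [DecidableEq ι]
variable {R : Type u} [CommRing R] (𝒜 : ι → AddSubgroup R) [GradedRing 𝒜]
variable {E' : Type u} [AddCommGroup E'] [Module R E'] (𝓔 : ι → AddSubgroup E')
  [DirectSum.Decomposition 𝓔] [SetLike.GradedSMul 𝒜 𝓔]

/-- the structure of a direct sum of shifted `*E(R/p_α)` -/
structure StarSum {Λ : Type u} (P : Λ → HomogeneousIdeal 𝒜) (g : Λ → ι)
    (J : Λ → Submodule R E') (f : ∀ α, (R ⧸ (P α).toIdeal) →ₗ[R] E') : Prop where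
  prime : ∀ α, (P α).toIdeal.IsPrime
  hom : ∀ α, (J α).IsHomogeneous 𝓔
  ind : iSupIndep J
  top : iSup J = ⊤
  inj : ∀ α, Function.Injective (f α)
  deg : ∀ α, GrLC.IsGrHomDeg (GrLC.quotGr 𝒜 (P α)) 𝓔 (f α) (g α)
  le : ∀ α, LinearMap.range (f α) ≤ J α
  ess : ∀ α, ∀ Q : Submodule R E', Q.IsHomogeneous 𝓔 → Q ≤ J α → Q ≠ ⊥ →
    Q ⊓ LinearMap.range (f α) ≠ ⊥

variable {Λ : Type u} {P : Λ → HomogeneousIdeal 𝒜} {g : Λ → ι}
  {J : Λ → Submodule R E'} {f : ∀ α, (R ⧸ (P α).toIdeal) →ₗ[R] E'}

/-- the generator `f_α(1)` -/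
def uu (f : ∀ α, (R ⧸ (P α).toIdeal) →ₗ[R] E') (α : Λ) : E' := f α 1

theorem smul_uu (α : Λ) (r : R) : r • uu 𝒜 f α = f α (Ideal.Quotient.mk _ r) := by
  unfold uu
  rw [← map_smul]
  congr 1
  rw [Algebra.smul_def, mul_one]
  rfl

variable {𝒜 𝓔}

theorem StarSum.smul_uu_eq_zero_iff (h : StarSum 𝒜 𝓔 P g J f) (α : Λ) (r : R) :
    r • uu 𝒜 f α = 0 ↔ r ∈ (P α).toIdeal := by
  rw [smul_uu, ← Ideal.Quotient.eq_zero_iff_mem]
  constructor
  · intro h0
    apply h.inj α
    rw [h0, map_zero]
  · intro h0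
    rw [h0, map_zero]

theorem StarSum.uu_mem_gr (h : StarSum 𝒜 𝓔 P g J f) (α : Λ) : uu 𝒜 f α ∈ 𝓔 (g α) := by
  have h1 : (1 : R ⧸ (P α).toIdeal) ∈ GrLC.quotGr 𝒜 (P α) 0 :=
    ⟨1, (SetLike.GradedOne.one_mem : (1 : R) ∈ 𝒜 0), rfl⟩
  have := h.deg α 0 1 h1
  rwa [zero_add] at this

theorem StarSum.uu_mem (h : StarSum 𝒜 𝓔 P g J f) (α : Λ) : uu 𝒜 f α ∈ J α :=
  h.le α ⟨1, rfl⟩

theorem StarSum.range_eq_span (_h : StarSum 𝒜 𝓔 P g J f) (α : Λ) :
    LinearMap.range (f α) = Submodule.span R {uu 𝒜 f α} := by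
  apply le_antisymm
  · rintro _ ⟨z, rfl⟩
    obtain ⟨r, rfl⟩ := Ideal.Quotient.mk_surjective z
    rw [← smul_uu]
    exact Submodule.smul_mem _ _ (Submodule.mem_span_singleton_self _)
  · rw [Submodule.span_le, Set.singleton_subset_iff]
    exact ⟨1, rfl⟩

theorem StarSum.exists_smul_mem (h : StarSum 𝒜 𝓔 P g J f) (α : Λ) (x : E') (hx : x ∈ J α)
    (hx0 : x ≠ 0) : ∃ a b : R, a • x ≠ 0 ∧ a • x = b • uu 𝒜 f α := by
  obtain ⟨a, ha0, ha⟩ := exists_smul_mem_of_ess_in 𝒜 𝓔 (Submodule.span R {uu 𝒜 f α}) (J α)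
    (span_singleton_isHomogeneous 𝒜 𝓔 (h.uu_mem_gr α)) (h.hom α)
    (by
      rw [Submodule.span_le, Set.singleton_subset_iff]
      exact h.uu_mem α)
    (by
      intro Q hQ hQJ hQ0
      rw [← h.range_eq_span α]
      exact h.ess α Q hQ hQJ hQ0)
    x hx hx0
  obtain ⟨b, hb⟩ := Submodule.mem_span_singleton.mp ha
  exact ⟨a, b, ha0, hb.symm⟩

variable (p : HomogeneousIdeal 𝒜) [p.toIdeal.IsPrime]

/-- the generators of the socle of `E'_p` -/
noncomputable def vv (f : ∀ α, (R ⧸ (P α).toIdeal) →ₗ[R] E') (β : {α : Λ // P α = p}) :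
    LocalizedModule p.toIdeal.primeCompl E' :=
  LocalizedModule.mk (uu 𝒜 f β.1) 1

theorem StarSum.vv_ne_zero (h : StarSum 𝒜 𝓔 P g J f) (β : {α : Λ // P α = p}) :
    vv p f β ≠ 0 := by
  intro h0
  unfold vv at h0
  rw [mk_eq_zero_iff'] at h0
  obtain ⟨t, ht, hzero⟩ := h0
  rw [h.smul_uu_eq_zero_iff, β.2] at hzero
  exact ht hzero

theorem StarSum.vv_mem_soc (h : StarSum 𝒜 𝓔 P g J f) (β : {α : Λ // P α = p}) :
    vv p f β ∈ soc (Localization.AtPrime p.toIdeal) (LocalizedModule p.toIdeal.primeCompl E') := by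
  rw [mem_soc_iff]
  intro a ha
  obtain ⟨r, s, rfl⟩ := IsLocalization.exists_mk'_eq p.toIdeal.primeCompl a
  rw [IsLocalization.AtPrime.mk'_mem_maximal_iff (Localization.AtPrime p.toIdeal) p.toIdeal] at ha
  unfold vv
  rw [mk'_smul_mk'']
  have : r • uu 𝒜 f β.1 = 0 := by
    rw [h.smul_uu_eq_zero_iff, β.2]
    exact ha
  rw [this, LocalizedModule.zero_mk]

/-- Lemma C: the socle of `E'_p` is spanned by the `v_β`. -/
theorem StarSum.soc_le_span [IsNoetherianRing R] (h : StarSum 𝒜 𝓔 P g J f) :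
    soc (Localization.AtPrime p.toIdeal) (LocalizedModule p.toIdeal.primeCompl E') ≤
      Submodule.span (Localization.AtPrime p.toIdeal) (Set.range (vv p f)) := by
  classical
  intro x hx
  by_cases hx0 : x = 0
  · rw [hx0]
    exact Submodule.zero_mem _
  obtain ⟨y, s, rfl, hpy, hty⟩ := exists_rep_of_mem_soc p.toIdeal
    ((isNoetherianRing_iff_ideal_fg R).mp inferInstance _) x hx hx0
  have hy : y ∈ iSup J := by rw [h.top]; exact Submodule.mem_top
  obtain ⟨c, hc, rfl⟩ := (Submodule.mem_iSup_iff_exists_finsupp J y).mp hy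
  -- `p` kills every component
  have hpc : ∀ r ∈ p.toIdeal, ∀ α ∈ c.support, r • c α = 0 := by
    intro r hr
    apply sum_eq_zero_of_indep J h.ind c.support (fun α => r • c α)
      (fun α _ => Submodule.smul_mem _ _ (hc α))
    have := hpy r hr
    rw [Finsupp.sum, Finset.smul_sum] at this
    exact this
  have hx_eq : (LocalizedModule.mk (c.sum fun _ z => z) s : LocalizedModule p.toIdeal.primeCompl E')
      = (IsLocalization.mk' (Localization.AtPrime p.toIdeal) (1 : R) s) •
        ∑ α ∈ c.support, (LocalizedModule.mk (c α) 1 : LocalizedModule p.toIdeal.primeCompl E') := by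
    have h1 : (∑ α ∈ c.support, (LocalizedModule.mk (c α) 1 : LocalizedModule p.toIdeal.primeCompl E'))
        = LocalizedModule.mk (c.sum fun _ z => z) 1 := by
      change _ = LocalizedModule.mkLinearMap p.toIdeal.primeCompl E' (c.sum fun _ z => z)
      rw [Finsupp.sum, map_sum]
      rfl
    rw [h1, mk'_smul_mk'', one_smul, mul_one]
  rw [hx_eq]
  apply Submodule.smul_mem
  apply Submodule.sum_mem
  intro α hα
  by_cases hcase : ∃ t : R, t ∉ p.toIdeal ∧ t • c α = 0
  · have : (LocalizedModule.mk (c α) 1 : LocalizedModule p.toIdeal.primeCompl E') = 0 := by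
      rw [mk_eq_zero_iff']
      exact hcase
    rw [this]
    exact Submodule.zero_mem _
  · push Not at hcase
    have hcα0 : c α ≠ 0 := by
      intro h0
      apply hcase 1 (fun h1 => (Ideal.ne_top_iff_one p.toIdeal).mp (Ideal.IsPrime.ne_top ‹_›) h1)
      rw [h0, smul_zero]
    obtain ⟨a, b, hab0, hab⟩ := h.exists_smul_mem α (c α) (hc α) hcα0
    have hap : a ∉ p.toIdeal := by
      intro hmem
      exact hab0 (hpc a hmem α hα)
    have hbP : b ∉ (P α).toIdeal := by
      intro hmem
      apply hab0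
      rw [hab, h.smul_uu_eq_zero_iff]
      exact hmem
    have hPp : (P α).toIdeal = p.toIdeal := by
      have := h.prime α
      apply le_antisymm
      · intro r hr
        by_contra hrp
        have h1 : (r * a) • c α = 0 := by
          rw [mul_smul, hab, smul_comm, (h.smul_uu_eq_zero_iff α r).mpr hr, smul_zero]
        have h2 : r * a ∉ p.toIdeal := by
          intro hmem
          rcases Ideal.IsPrime.mem_or_mem ‹p.toIdeal.IsPrime› hmem with h' | h'
          · exact hrp h'
          · exact hap h'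
        exact hcase (r * a) h2 h1
      · intro r hr
        have h1 : (r * b) • uu 𝒜 f α = 0 := by
          rw [mul_smul, ← hab, smul_comm, hpc r hr α hα, smul_zero]
        rw [h.smul_uu_eq_zero_iff] at h1
        rcases Ideal.IsPrime.mem_or_mem (h.prime α) h1 with h' | h'
        · exact h'
        · exact absurd h' hbP
    have hPp' : P α = p := HomogeneousIdeal.toIdeal_injective hPp
    have h3 : (LocalizedModule.mk (c α) 1 : LocalizedModule p.toIdeal.primeCompl E')
        = (IsLocalization.mk' (Localization.AtPrime p.toIdeal) b (⟨a, hap⟩ : p.toIdeal.primeCompl)) •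
          vv p f ⟨α, hPp'⟩ := by
      unfold vv
      rw [mk'_smul_mk'', ← hab]
      exact (LocalizedModule.mk_cancel_common_left (⟨a, hap⟩ : p.toIdeal.primeCompl) 1 (c α)).symm
    rw [h3]
    exact Submodule.smul_mem _ _ (Submodule.subset_span ⟨⟨α, hPp'⟩, rfl⟩)

/-- the maps `k → E'_p`, `1 ↦ v_β` -/
noncomputable def phi (h : StarSum 𝒜 𝓔 P g J f) (β : {α : Λ // P α = p}) :
    ResidueField (Localization.AtPrime p.toIdeal) →ₗ[Localization.AtPrime p.toIdeal]
      LocalizedModule p.toIdeal.primeCompl E' :=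
  Classical.choose (show vv p f β ∈ LinearMap.range (evalOne _ _) by
    rw [range_evalOne]; exact h.vv_mem_soc p β)

theorem phi_one (h : StarSum 𝒜 𝓔 P g J f) (β : {α : Λ // P α = p}) :
    phi p h β 1 = vv p f β :=
  Classical.choose_spec (show vv p f β ∈ LinearMap.range (evalOne _ _) by
    rw [range_evalOne]; exact h.vv_mem_soc p β)

theorem phi_residue (h : StarSum 𝒜 𝓔 P g J f) (β : {α : Λ // P α = p})
    (a : Localization.AtPrime p.toIdeal) :
    phi p h β (residue _ a) = a • vv p f β := by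
  rw [← residue_smul_one, map_smul, phi_one]

theorem phi_mem_soc (h : StarSum 𝒜 𝓔 P g J f) (β : {α : Λ // P α = p})
    (z : ResidueField (Localization.AtPrime p.toIdeal)) :
    phi p h β z ∈ soc (Localization.AtPrime p.toIdeal) (LocalizedModule p.toIdeal.primeCompl E') := by
  obtain ⟨a, rfl⟩ := residue_surjective z
  rw [phi_residue]
  exact Submodule.smul_mem _ _ (h.vv_mem_soc p β)

/-- the comparison map from the free `k`-module on the index set -/
noncomputable def Phi (h : StarSum 𝒜 𝓔 P g J f) :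
    ({α : Λ // P α = p} →₀ ResidueField (Localization.AtPrime p.toIdeal))
      →ₗ[Localization.AtPrime p.toIdeal] LocalizedModule p.toIdeal.primeCompl E' :=
  Finsupp.lsum ℕ (phi p h)

theorem range_Phi [IsNoetherianRing R] (h : StarSum 𝒜 𝓔 P g J f) :
    LinearMap.range (Phi p h) =
      soc (Localization.AtPrime p.toIdeal) (LocalizedModule p.toIdeal.primeCompl E') := by
  apply le_antisymm
  · rintro _ ⟨c, rfl⟩
    unfold Phi
    rw [Finsupp.lsum_apply]
    apply Submodule.sum_mem
    intro β _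
    exact phi_mem_soc p h β _
  · refine le_trans (h.soc_le_span p) ?_
    rw [Submodule.span_le]
    rintro _ ⟨β, rfl⟩
    refine ⟨Finsupp.single β 1, ?_⟩
    unfold Phi
    rw [Finsupp.lsum_single, phi_one]

theorem Phi_injective (h : StarSum 𝒜 𝓔 P g J f) : Function.Injective (Phi p h) := by
  classical
  rw [injective_iff_map_eq_zero]
  intro c hc
  let a : {α : Λ // P α = p} → Localization.AtPrime p.toIdeal :=
    fun β => Function.surjInv residue_surjective (c β)
  have ha : ∀ β, residue _ (a β) = c β := fun β => Function.surjInv_eq residue_surjective (c β)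
  have hsum : ∑ β ∈ c.support, a β •
      (LocalizedModule.mk (uu 𝒜 f β.1) 1 : LocalizedModule p.toIdeal.primeCompl E') = 0 := by
    rw [← hc]
    unfold Phi
    rw [Finsupp.lsum_apply, Finsupp.sum]
    apply Finset.sum_congr rfl
    intro β _
    rw [← ha β, phi_residue]
    rfl
  have hind' : iSupIndep (fun β : {α : Λ // P α = p} => J β.1) :=
    h.ind.comp Subtype.val_injective
  have h0 := loc_sum_eq_zero_of_indep p.toIdeal (fun β : {α : Λ // P α = p} => J β.1) hind'
    c.support (fun β => uu 𝒜 f β.1) (fun β _ => h.uu_mem β.1) a hsum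
  ext β
  rw [Finsupp.zero_apply]
  by_contra hcβ
  have hβ : β ∈ c.support := Finsupp.mem_support_iff.mpr hcβ
  have h1 := h0 β hβ
  have hmem : a β ∈ maximalIdeal (Localization.AtPrime p.toIdeal) := by
    by_contra hnot
    have hunit : IsUnit (a β) := by
      by_contra hnu
      exact hnot ((mem_maximalIdeal _).mpr hnu)
    apply h.vv_ne_zero p β
    have : vv p f β = (hunit.unit⁻¹ : (Localization.AtPrime p.toIdeal)ˣ) • (a β • vv p f β) := by
      rw [Units.smul_def, ← mul_smul, IsUnit.val_inv_mul, one_smul]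
    rw [this]
    unfold vv
    rw [h1, smul_zero]
  apply hcβ
  rw [← ha β]
  exact (residue_eq_zero_iff _).mpr hmem

/-- the length of the socle of `E'_p` is the number of `α` with `P α = p` -/
theorem length_soc [IsNoetherianRing R] (h : StarSum 𝒜 𝓔 P g J f) :
    Module.length (Localization.AtPrime p.toIdeal)
      (soc (Localization.AtPrime p.toIdeal) (LocalizedModule p.toIdeal.primeCompl E')) =
      ENat.card {α : Λ // P α = p} := by
  rw [← range_Phi p h, ← (LinearEquiv.ofInjective (Phi p h) (Phi_injective p h)).length_eq,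
    Module.length_finsupp, Module.length_eq_one, mul_one]

end Count

end Groth.Agent.H98.Bass0
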