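import Groth.Agent.H98.GrStar.Summand
import Groth.Agent.H98.GrStar.Indec
import Groth.Agent.H98.GrStar.LocCohGr
import Groth.Agent.H98.Bass0.StarCount

set_option autoImplicit false
universe u

/-!
# Socles over *local rings
-/

namespace Groth.Agent.H98.Bass0

open IsLocalRing Groth.Agent.H98.GrStar

section StarLocal

variable {ι : Type} [AddCommGroup ι] [DecidableEq ι]
variable {R : Type u} [CommRing R] [IsNoetherianRing R] (𝒜 : ι → AddSubgroup R) [GradedRing 𝒜]
variable {m : HomogeneousIdeal 𝒜} (hm : GrLC.IsStarLocal 𝒜 m)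

include hm in
/-- (L1) every proper homogeneous ideal of a *local ring lies in the *maximal ideal -/
theorem le_of_isStarLocal (I : Ideal R) (hI : I.IsHomogeneous 𝒜) (hne : I ≠ ⊤) : I ≤ m.toIdeal := by
  classical
  let S : Set (Ideal R) := {J | J.IsHomogeneous 𝒜 ∧ J ≠ ⊤ ∧ I ≤ J}
  have hS : S.Nonempty := ⟨I, hI, hne, le_refl _⟩
  obtain ⟨J, ⟨hJh, hJne, hIJ⟩, hmax⟩ :=
    (set_has_maximal_iff_noetherian (R := R) (M := R)).mpr inferInstance S hS
  have hco : IsCoatom (⟨J, hJh⟩ : HomogeneousIdeal 𝒜) := by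
    constructor
    · intro h
      apply hJne
      have := congrArg HomogeneousIdeal.toIdeal h
      exact this
    · intro K hK
      by_contra hKtop
      have hKS : HomogeneousIdeal.toIdeal K ∈ S := by
        refine ⟨HomogeneousIdeal.isHomogeneous K, ?_, le_trans hIJ (le_of_lt hK)⟩
        intro h
        apply hKtop
        exact HomogeneousIdeal.toIdeal_injective h
      exact hmax (HomogeneousIdeal.toIdeal K) hKS hK
  have := hm.2 ⟨J, hJh⟩ hco
  rw [← this]
  exact hIJ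

include hm in
theorem ne_top_of_isStarLocal : m.toIdeal ≠ ⊤ := by
  intro h
  apply hm.1.1
  exact HomogeneousIdeal.toIdeal_injective h

variable {Z : Type u} [AddCommGroup Z] [Module R Z] (𝒵 : ι → AddSubgroup Z)
  [DirectSum.Decomposition 𝒵] [SetLike.GradedSMul 𝒜 𝒵]

include hm in
/-- (L2) a nonzero homogeneous element killed by `m` has annihilator exactly `m` -/
theorem annihilator_eq_of_isStarLocal {g : ι} {y : Z} (hy : y ∈ 𝒵 g) (hy0 : y ≠ 0)
    (hmy : ∀ r ∈ m.toIdeal, r • y = 0) : (Submodule.span R {y}).annihilator = m.toIdeal := by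
  apply le_antisymm
  · apply le_of_isStarLocal 𝒜 hm _ (annihilator_isHomogeneous 𝒜 𝒵 hy)
    intro h
    apply hy0
    have : (1 : R) ∈ (Submodule.span R {y}).annihilator := by rw [h]; exact Submodule.mem_top
    rw [Submodule.mem_annihilator_span_singleton, one_smul] at this
    exact this
  · intro r hr
    rw [Submodule.mem_annihilator_span_singleton]
    exact hmy r hr

/-- (L3) a nonzero `m`-torsion part contains a nonzero homogeneous socle element -/
theorem exists_homogeneous_socle (hne : GrLC.gam m.toIdeal Z ≠ ⊥) :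
    ∃ (g : ι) (y : Z), y ∈ 𝒵 g ∧ y ≠ 0 ∧ ∀ r ∈ m.toIdeal, r • y = 0 := by
  classical
  obtain ⟨j, x, hxG, hxj, hx0⟩ := exists_homogeneous_ne_zero 𝒵 _ (gam_isHomogeneous 𝒜 𝒵 m) hne
  obtain ⟨k, hk⟩ := hxG
  -- minimal exponent
  have hex : ∃ k : ℕ, ∀ r ∈ m.toIdeal ^ k, r • x = 0 := ⟨k, hk⟩
  let k₀ := Nat.find hex
  have hk₀ : ∀ r ∈ m.toIdeal ^ k₀, r • x = 0 := Nat.find_spec hex
  have hk₀pos : k₀ ≠ 0 := by
    intro h0
    apply hx0
    have := hk₀ 1 (by rw [h0, pow_zero, Ideal.one_eq_top]; exact Submodule.mem_top)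
    rwa [one_smul] at this
  obtain ⟨k₁, hk₁⟩ := Nat.exists_eq_succ_of_ne_zero hk₀pos
  have hnot : ¬ ∀ r ∈ m.toIdeal ^ k₁, r • x = 0 := by
    intro h
    have := Nat.find_min' hex h
    change k₀ ≤ k₁ at this
    omega
  push Not at hnot
  obtain ⟨r, hr, hrx⟩ := hnot
  have hpow := pow_isHomogeneous 𝒜 m.toIdeal m.isHomogeneous k₁
  -- a homogeneous component of `r` not killing `x`
  have hcomp : ∃ d, ((DirectSum.decompose 𝒜 r d : 𝒜 d) : R) • x ≠ 0 := by
    by_contra hcon
    push Not at hcon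
    apply hrx
    rw [← DirectSum.sum_support_decompose 𝒜 r, Finset.sum_smul]
    exact Finset.sum_eq_zero (fun d _ => hcon d)
  obtain ⟨d, hd⟩ := hcomp
  refine ⟨d + j, ((DirectSum.decompose 𝒜 r d : 𝒜 d) : R) • x, ?_, hd, ?_⟩
  · have := SetLike.GradedSMul.smul_mem (A := 𝒜) (B := 𝒵)
      (SetLike.coe_mem (DirectSum.decompose 𝒜 r d)) hxj
    rwa [vadd_eq_add] at this
  · intro s hs
    rw [← mul_smul]
    apply hk₀
    rw [hk₁, pow_succ']
    exact Ideal.mul_mem_mul hs (hpow d hr)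

variable [m.toIdeal.IsPrime]

include hm in
/-- (L4) a nonzero homogeneous socle element gives a nonzero element of the socle of `Z_m` -/
theorem mk_mem_soc_of_isStarLocal {g : ι} {y : Z} (hy : y ∈ 𝒵 g) (hy0 : y ≠ 0)
    (hmy : ∀ r ∈ m.toIdeal, r • y = 0) :
    (LocalizedModule.mk y 1 : LocalizedModule m.toIdeal.primeCompl Z) ∈
      soc (Localization.AtPrime m.toIdeal) (LocalizedModule m.toIdeal.primeCompl Z) ∧
    (LocalizedModule.mk y 1 : LocalizedModule m.toIdeal.primeCompl Z) ≠ 0 := by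
  constructor
  · rw [mem_soc_iff]
    intro a ha
    obtain ⟨r, s, rfl⟩ := IsLocalization.exists_mk'_eq m.toIdeal.primeCompl a
    rw [IsLocalization.AtPrime.mk'_mem_maximal_iff (Localization.AtPrime m.toIdeal) m.toIdeal] at ha
    rw [mk'_smul_mk'', hmy r ha, LocalizedModule.zero_mk]
  · intro h0
    rw [mk_eq_zero_iff'] at h0
    obtain ⟨t, ht, hty⟩ := h0
    apply ht
    rw [← annihilator_eq_of_isStarLocal 𝒜 hm 𝒵 hy hy0 hmy, Submodule.mem_annihilator_span_singleton]
    exact hty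

include hm 𝒵 in
/-- if the socle of `Z_m` vanishes then `Γ_m(Z) = 0` -/
theorem gam_eq_bot_of_soc_eq_bot
    (h : soc (Localization.AtPrime m.toIdeal) (LocalizedModule m.toIdeal.primeCompl Z) = ⊥) :
    GrLC.gam m.toIdeal Z = ⊥ := by
  by_contra hne
  obtain ⟨g, y, hy, hy0, hmy⟩ := exists_homogeneous_socle 𝒜 𝒵 hne
  obtain ⟨h1, h2⟩ := mk_mem_soc_of_isStarLocal 𝒜 hm 𝒵 hy hy0 hmy
  rw [h, Submodule.mem_bot] at h1
  exact h2 h1

end StarLocal

end Groth.Agent.H98.Bass0
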