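import Groth.Agent.H98.Bass0.GorTop

set_option autoImplicit false
universe u

/-!
# `*H^n_m(R) ≅ *E(R/m)(g)` for a Gorenstein *local ring
-/

namespace Groth.Agent.H98.Bass0

open IsLocalRing Groth.Agent.H98.GrStar

section Final

variable {ι : Type} [AddCommGroup ι] [DecidableEq ι] [Module.Free ℤ ι] [Module.Finite ℤ ι]
variable (R : Type u) [CommRing R] [LocCoh.IsGorensteinRing R] (𝒜 : ι → AddSubgroup R) [GradedRing 𝒜]

theorem exists_top_H_equiv (m : HomogeneousIdeal 𝒜) (hm : GrLC.IsStarLocal 𝒜 m) (n : ℕ)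
    (hn : m.toIdeal.height = n) (I : GrLC.StarInjRes 𝒜 𝒜) (E' : Type u) [AddCommGroup E']
    [Module R E'] (𝓔 : ι → AddSubgroup E') [DirectSum.Decomposition 𝓔] [SetLike.GradedSMul 𝒜 𝓔]
    (e : (R ⧸ m.toIdeal) →ₗ[R] E') (he : GrLC.IsStarInjHull 𝒜 (GrLC.quotGr 𝒜 m) 𝓔 e) :
    ∃ (g : ι) (φ : I.H m n ≃ₗ[R] E'), GrLC.IsGrHomDeg (I.Hgr m n) 𝓔 φ.toLinearMap g := by
  classical
  have hprime : m.toIdeal.IsPrime := isPrime_of_isStarLocal 𝒜 hm
  let X : GrLC.StarInjRes 𝒜 𝒜 := minRes 𝒜 𝒜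
  have hE : IsMinimal X := minRes_isMinimal 𝒜 𝒜
  obtain ⟨hb0, hb1⟩ := bassNum_gorenstein m.toIdeal n hn
  -- the socles
  have hsoc0 : ∀ j : ℕ, j ≠ n → GrLC.gam m.toIdeal (X.X j).carrier = ⊥ := by
    intro j hj
    apply gam_eq_bot_of_soc_eq_bot 𝒜 hm (X.X j).gr
    have h1 : socLen m X j = 0 := by rw [← hE.bassNum_eq m j]; exact hb0 j hj
    rw [socLen, Module.length_eq_zero_iff] at h1
    exact (Submodule.subsingleton_iff_eq_bot).mp h1
  have hsimple : IsSimpleModule (Localization.AtPrime m.toIdeal)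
      (soc (Localization.AtPrime m.toIdeal)
        (LocalizedModule m.toIdeal.primeCompl (X.X n).carrier)) := by
    have h1 : socLen m X n = 1 := by rw [← hE.bassNum_eq m n]; exact hb1
    rw [socLen, Module.length_eq_one_iff] at h1
    exact h1
  obtain ⟨g₀, Xh, f, ψ, hf, hψinj, hψgr, hψrange⟩ :=
    exists_hull_eq_gam 𝒜 hm (X.X n) (X.starInj n) hsimple
  obtain ⟨β, hβ⟩ := exists_equiv_of_shift_hull 𝒜 m g₀ Xh f hf 𝓔 e he
  have hnext : GrLC.gam m.toIdeal (X.X (n + 1)).carrier = ⊥ := hsoc0 (n + 1) (by omega)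
  have hprev : ∀ j, j + 1 = n → GrLC.gam m.toIdeal (X.X j).carrier = ⊥ :=
    fun j hj => hsoc0 j (by omega)
  let φ : I.H m n ≃ₗ[R] E' :=
    (resEquiv m I X n).trans ((HEquivGam X m n hnext hprev).trans
      ((LinearEquiv.ofEq _ _ hψrange.symm).trans
        ((LinearEquiv.ofInjective ψ hψinj).symm.trans β)))
  refine ⟨-g₀, φ, ?_⟩
  intro g' x hx
  have h1 : resEquiv m I X n x ∈ X.Hgr m n g' := resEquiv_isGrHom m I X n g' x hx
  have h2 := HEquivGam_mem X m n hnext hprev g' _ h1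
  set w := HEquivGam X m n hnext hprev (resEquiv m I X n x) with hw
  have hwr : (w : (X.X n).carrier) ∈ LinearMap.range ψ := by rw [hψrange]; exact w.2
  set v := (LinearEquiv.ofInjective ψ hψinj).symm ⟨(w : (X.X n).carrier), hwr⟩ with hv
  have hψv : ψ v = (w : (X.X n).carrier) := by
    have := (LinearEquiv.ofInjective ψ hψinj).apply_symm_apply ⟨(w : (X.X n).carrier), hwr⟩
    exact congrArg Subtype.val this
  have hvgr : v ∈ Xh.gr g' := by
    apply GrSES.mem_of_map_mem Xh.gr (X.X n).gr ψ hψgr hψinj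
    rw [hψv]
    exact h2
  have h3 := hβ g' v hvgr
  have hφ : φ x = β v := rfl
  change φ x ∈ 𝓔 (g' + -g₀)
  rw [hφ, ← sub_eq_add_neg]
  exact h3

end Final

end Groth.Agent.H98.Bass0
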