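import Mathlib

set_option autoImplicit false
universe u

/-!
# Localized short exact sequences in `ModuleCat (Localization S)`
-/

namespace Groth.Agent.H98.Bass0

open CategoryTheory Abelian

section LocSES

variable {R : Type u} [CommRing R] (S : Submonoid R)
variable {B X B' : Type u} [AddCommGroup B] [Module R B] [AddCommGroup X] [Module R X]
  [AddCommGroup B'] [Module R B']

/-- the object `N_S` of `ModuleCat (Localization S)` -/
noncomputable abbrev locObj (N : Type u) [AddCommGroup N] [Module R N] : ModuleCat.{u} (Localization S) :=
  ModuleCat.of (Localization S) (LocalizedModule S N)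

theorem map_comp_map (u : B →ₗ[R] X) (v : X →ₗ[R] B') :
    LocalizedModule.map S v ∘ₗ LocalizedModule.map S u = LocalizedModule.map S (v ∘ₗ u) := by
  apply LinearMap.ext
  intro x
  induction x using LocalizedModule.induction_on with
  | h m s => simp [LocalizedModule.map_mk]

/-- the localized short complex -/
noncomputable abbrev locSC (u : B →ₗ[R] X) (v : X →ₗ[R] B') (h : v ∘ₗ u = 0) :
    ShortComplex (ModuleCat.{u} (Localization S)) :=
  ModuleCat.shortComplexOfCompEqZero (LocalizedModule.map S u) (LocalizedModule.map S v)
    (by rw [map_comp_map, h, map_zero])

theorem locSC_shortExact (u : B →ₗ[R] X) (v : X →ₗ[R] B') (hu : Function.Injective u)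
    (hv : Function.Surjective v) (hex : Function.Exact u v) :
    (locSC S u v hex.linearMap_comp_eq_zero).ShortExact := by
  apply ModuleCat.shortComplex_shortExact
  · exact LocalizedModule.map_exact S u v hex
  · exact LocalizedModule.map_injective S u hu
  · exact LocalizedModule.map_surjective S v hv

end LocSES

end Groth.Agent.H98.Bass0
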