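import Groth.Agent.H98.GrStar.ExtVanish
import Groth.Agent.H98.Bass0.LocSES

set_option autoImplicit false
universe u

/-!
# `Ext^i_{S⁻¹R}(S⁻¹N, S⁻¹I) = 0` for `N` finitely generated graded and `I` *injective
-/

namespace Groth.Agent.H98.Bass0

open DirectSum CategoryTheory Abelian Groth.Agent.H98.GrStar

section

variable {R : Type u} [CommRing R] (S : Submonoid R)

theorem mk_one_smul_smul {W : Type u} [AddCommGroup W] [Module R W] [Module (Localization S) W]
    [IsScalarTower R (Localization S) W] (s : S) (y : W) :
    (Localization.mk 1 s : Localization S) • ((s : R) • y) = y := by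
  rw [← algebraMap_smul (Localization S) (s : R) y, ← mul_smul, Localization.mk_eq_mk',
    IsLocalization.mk'_spec, map_one, one_smul]

/-- extension of maps out of localized submodules of finitely presented modules -/
theorem exists_loc_extension {K F I : Type u} [AddCommGroup K] [Module R K] [AddCommGroup F]
    [Module R F] [AddCommGroup I] [Module R I] [Module.FinitePresentation R K]
    (incl : K →ₗ[R] F)
    (hext : ∀ φ : K →ₗ[R] I, ∃ ψ : F →ₗ[R] I, ψ ∘ₗ incl = φ)
    (φ : LocalizedModule S K →ₗ[Localization S] LocalizedModule S I) :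
    ∃ ψ : LocalizedModule S F →ₗ[Localization S] LocalizedModule S I,
      ψ ∘ₗ LocalizedModule.map S incl = φ := by
  obtain ⟨ψ₀, s, h⟩ := Module.FinitePresentation.exists_lift_of_isLocalizedModule S
    (LocalizedModule.mkLinearMap S I)
    ((φ.restrictScalars R) ∘ₗ LocalizedModule.mkLinearMap S K)
  obtain ⟨ψ₁, hψ₁⟩ := hext ψ₀
  refine ⟨(Localization.mk 1 s : Localization S) • LocalizedModule.map S ψ₁, ?_⟩
  apply LinearMap.restrictScalars_injective R
  apply IsLocalizedModule.linearMap_ext S (LocalizedModule.mkLinearMap S K)
    (LocalizedModule.mkLinearMap S I)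
  apply LinearMap.ext
  intro x
  have h1 := LinearMap.congr_fun h x
  simp only [LinearMap.coe_comp, Function.comp_apply, LinearMap.smul_apply,
    LinearMap.coe_restrictScalars, LocalizedModule.mkLinearMap_apply] at h1 ⊢
  rw [LocalizedModule.map_mk, LocalizedModule.map_mk]
  have h2 : ψ₁ (incl x) = ψ₀ x := LinearMap.congr_fun hψ₁ x
  rw [h2, h1]
  exact mk_one_smul_smul S s _

end

variable {ι : Type} [AddCommGroup ι] [DecidableEq ι]
variable {R : Type u} [CommRing R] [IsNoetherianRing R]
  {σ : Type u} [SetLike σ R] [AddSubgroupClass σ R]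
  (𝒜 : ι → σ) [GradedRing 𝒜]
variable {I : Type u} [AddCommGroup I] [Module R I] (ℐ : ι → AddSubgroup I)
  [DirectSum.Decomposition ℐ] [SetLike.GradedSMul 𝒜 ℐ]
variable (S : Submonoid R)

theorem ext_loc_subsingleton (hI : GrLC.IsStarInj 𝒜 ℐ) (i : ℕ) (hi : 1 ≤ i) :
    ∀ X : GrLC.GMod.{u} 𝒜, Module.Finite R X.carrier →
      Subsingleton (Ext.{u} (locObj S X.carrier) (locObj S I) i) := by
  induction i, hi using Nat.le_induction with
  | base =>
    intro X hfin
    obtain ⟨F, π, hfree, hfinF, hπs, hπg⟩ := exists_free_cover' 𝒜 X.gr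
    have hex : Function.Exact (LinearMap.ker π).subtype π := fun y => by
      simp [LinearMap.mem_ker]
    have hS := locSC_shortExact S (LinearMap.ker π).subtype π (Submodule.injective_subtype _) hπs hex
    have hrange : (LinearMap.range (LinearMap.ker π).subtype).IsHomogeneous F.gr := by
      rw [Submodule.range_subtype]
      exact ker_isHomogeneous F.gr X.gr π hπg
    have hfinK : Module.Finite R (LinearMap.ker π) := inferInstance
    have hfpK : Module.FinitePresentation R (LinearMap.ker π) :=
      Module.finitePresentation_of_finite R _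
    have hfinK' : Module.Finite R (subGMod 𝒜 F.gr (LinearMap.ker π).subtype
          (Submodule.injective_subtype _) hrange).carrier := hfinK
    have hproj : Projective (locSC S (LinearMap.ker π).subtype π hex.linearMap_comp_eq_zero).X₂ := by
      have : Module.Projective (Localization S) (LocalizedModule S F.carrier) := inferInstance
      exact (IsProjective.iff_projective _).mp this
    have key : ∀ x₃ : Ext.{u} (locObj S X.carrier) (locObj S I) 1, x₃ = 0 := by
      intro x₃
      have h0 : (Ext.mk₀ (locSC S (LinearMap.ker π).subtype π hex.linearMap_comp_eq_zero).g).comp x₃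
          (zero_add 1) = 0 := Ext.eq_zero_of_projective _
      obtain ⟨x₁, hx₁⟩ := Ext.contravariant_sequence_exact₃ hS _ x₃ h0 (add_zero 1)
      obtain ⟨φ, rfl⟩ := (Ext.mk₀_bijective _ _).2 x₁
      obtain ⟨ψ, hψ⟩ := exists_loc_extension S (LinearMap.ker π).subtype
        (fun φ₀ => exists_extension 𝒜 ℐ hI F
          (subGMod 𝒜 F.gr (LinearMap.ker π).subtype (Submodule.injective_subtype _) hrange)
          (LinearMap.ker π).subtype (fun _ _ h => h) (Submodule.injective_subtype _) φ₀) φ.hom
      have hφ : φ = (locSC S (LinearMap.ker π).subtype π hex.linearMap_comp_eq_zero).f ≫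
          ModuleCat.ofHom ψ := by
        ext x
        exact (LinearMap.congr_fun hψ x).symm
      rw [← hx₁, hφ, ← Ext.mk₀_comp_mk₀]
      exact hS.extClass_comp_assoc _
    exact ⟨fun a b => (key a).trans (key b).symm⟩
  | succ n hn ih =>
    intro X hfin
    obtain ⟨F, π, hfree, hfinF, hπs, hπg⟩ := exists_free_cover' 𝒜 X.gr
    have hex : Function.Exact (LinearMap.ker π).subtype π := fun y => by
      simp [LinearMap.mem_ker]
    have hS := locSC_shortExact S (LinearMap.ker π).subtype π (Submodule.injective_subtype _) hπs hex
    have hrange : (LinearMap.range (LinearMap.ker π).subtype).IsHomogeneous F.gr := by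
      rw [Submodule.range_subtype]
      exact ker_isHomogeneous F.gr X.gr π hπg
    have hfinK : Module.Finite R (LinearMap.ker π) := inferInstance
    have hK := ih (subGMod 𝒜 F.gr (LinearMap.ker π).subtype
          (Submodule.injective_subtype _) hrange) hfinK
    have hproj : Projective (locSC S (LinearMap.ker π).subtype π hex.linearMap_comp_eq_zero).X₂ := by
      have : Module.Projective (Localization S) (LocalizedModule S F.carrier) := inferInstance
      exact (IsProjective.iff_projective _).mp this
    have key : ∀ x₃ : Ext.{u} (locObj S X.carrier) (locObj S I) (n + 1), x₃ = 0 := by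
      intro x₃
      have h0 : (Ext.mk₀ (locSC S (LinearMap.ker π).subtype π hex.linearMap_comp_eq_zero).g).comp x₃
          (zero_add (n + 1)) = 0 := Ext.eq_zero_of_projective _
      obtain ⟨x₁, hx₁⟩ := Ext.contravariant_sequence_exact₃ hS _ x₃ h0 (add_comm 1 n)
      have hx₁0 : x₁ = 0 := hK.elim _ _
      rw [← hx₁, hx₁0]
      exact Ext.comp_zero ..
    exact ⟨fun a b => (key a).trans (key b).symm⟩

end Groth.Agent.H98.Bass0
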