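import Groth.Agent.H98.Bass0.MuStep
import Groth.Agent.H2.GorensteinType

set_option autoImplicit false
universe u

/-!
# Bass numbers of a Gorenstein ring: `μ^j(p, R) = δ_{j, ht p}`
-/

namespace Groth.Agent.H98.Bass0

open IsLocalRing CategoryTheory Abelian

section GorBass

variable {R : Type u} [CommRing R] (p : Ideal R) [p.IsPrime]

/-- `R_p` as a localized module is `R_p` -/
noncomputable def locSelfEquiv :
    LocalizedModule p.primeCompl R ≃ₗ[Localization.AtPrime p] Localization.AtPrime p :=
  (IsLocalizedModule.iso p.primeCompl (Algebra.linearMap R (Localization.AtPrime p))).extendScalarsOfIsLocalization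
    p.primeCompl (Localization.AtPrime p)

theorem bassNum_self_eq (j : ℕ) :
    GrLC.bassNum p R j = Module.length (Localization.AtPrime p)
      (Ext.{u} (kObj p) (ModuleCat.of (Localization.AtPrime p) (Localization.AtPrime p)) j) := by
  rw [bassNum_eq_length]

theorem bassNum_gorenstein [LocCoh.IsGorensteinRing R] (n : ℕ) (hn : p.height = n) :
    (∀ j : ℕ, j ≠ n → GrLC.bassNum p R j = 0) ∧ GrLC.bassNum p R n = 1 := by
  haveI : LocCoh.IsGorensteinLocalRing (Localization.AtPrime p) :=
    LocCoh.IsGorensteinRing.isGorensteinLocalRing_localization p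
  have hdim : ringKrullDim (Localization.AtPrime p) = n := by
    rw [IsLocalization.AtPrime.ringKrullDim_eq_height p (Localization.AtPrime p), hn]
    rfl
  constructor
  · intro j hj
    rw [bassNum_self_eq, Module.length_eq_zero_iff]
    exact (Groth.Agent.H2.GorensteinExt.ext_residueField_of_gorenstein _ n hdim).1 j hj
  · rw [bassNum_self_eq]
    exact Groth.Agent.H2.GorensteinType.length_ext_residueField _ n hdim

end GorBass

end Groth.Agent.H98.Bass0
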