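import Mathlib

set_option autoImplicit false
universe u

/-!
# Dimension shifting in the second variable, with lengths
-/

namespace Groth.Agent.H98.Bass0

open CategoryTheory Abelian

section Shift

variable {A : Type u} [CommRing A]
variable {K : ModuleCat.{u} A} {S : ShortComplex (ModuleCat.{u} A)} (hS : S.ShortExact)

/-- the connecting map `Ext^j(K, X₃) → Ext^{j+1}(K, X₁)` as a linear map -/
noncomputable def deltaL (K : ModuleCat.{u} A) (j : ℕ) :
    Ext.{u} K S.X₃ j →ₗ[A] Ext.{u} K S.X₁ (j + 1) where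
  toFun x := x.comp hS.extClass rfl
  map_add' x y := Ext.add_comp x y hS.extClass rfl
  map_smul' r x := Ext.smul_comp x hS.extClass rfl r

theorem deltaL_apply (j : ℕ) (x : Ext.{u} K S.X₃ j) : deltaL hS K j x = x.comp hS.extClass rfl := rfl

theorem deltaL_surjective (j : ℕ) (h : Subsingleton (Ext.{u} K S.X₂ (j + 1))) :
    Function.Surjective (deltaL hS K j) := by
  intro x₁
  have h0 : x₁.comp (Ext.mk₀ S.f) (add_zero (j + 1)) = 0 := h.elim _ _
  obtain ⟨x₃, hx₃⟩ := Ext.covariant_sequence_exact₁ K hS x₁ h0 rfl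
  exact ⟨x₃, hx₃⟩

theorem deltaL_injective_of_subsingleton (j : ℕ) (h : Subsingleton (Ext.{u} K S.X₂ j)) :
    Function.Injective (deltaL hS K j) := by
  rw [injective_iff_map_eq_zero]
  intro x₃ hx₃
  obtain ⟨x₂, hx₂⟩ := Ext.covariant_sequence_exact₃ K hS x₃ rfl hx₃
  rw [← hx₂, h.elim x₂ 0, Ext.zero_comp]

theorem deltaL_zero_injective (h0 : ∀ φ : K ⟶ S.X₂, φ ≫ S.g = 0) :
    Function.Injective (deltaL hS K 0) := by
  rw [injective_iff_map_eq_zero]
  intro x₃ hx₃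
  obtain ⟨x₂, hx₂⟩ := Ext.covariant_sequence_exact₃ K hS x₃ rfl hx₃
  obtain ⟨φ, rfl⟩ := (Ext.mk₀_bijective _ _).2 x₂
  rw [← hx₂, Ext.mk₀_comp_mk₀, h0 φ, Ext.mk₀_zero]

include hS in
/-- dimension shifting: `ℓ(Ext^{j+1}(K, X₁)) = ℓ(Ext^j(K, X₃))` for `j ≥ 1` -/
theorem length_ext_succ (j : ℕ) (hj : 1 ≤ j) (hvan : ∀ i : ℕ, 1 ≤ i → Subsingleton (Ext.{u} K S.X₂ i)) :
    Module.length A (Ext.{u} K S.X₁ (j + 1)) = Module.length A (Ext.{u} K S.X₃ j) :=
  (LinearEquiv.ofBijective (deltaL hS K j)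
    ⟨deltaL_injective_of_subsingleton hS j (hvan j hj),
      deltaL_surjective hS j (hvan (j + 1) (by omega))⟩).length_eq.symm

include hS in
/-- dimension shifting at the bottom: `ℓ(Ext^1(K, X₁)) = ℓ(Ext^0(K, X₃))` if all maps `K → X₂ → X₃`
vanish -/
theorem length_ext_one (hvan : Subsingleton (Ext.{u} K S.X₂ 1)) (h0 : ∀ φ : K ⟶ S.X₂, φ ≫ S.g = 0) :
    Module.length A (Ext.{u} K S.X₁ (0 + 1)) = Module.length A (Ext.{u} K S.X₃ 0) :=
  (LinearEquiv.ofBijective (deltaL hS K 0)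
    ⟨deltaL_zero_injective hS h0, deltaL_surjective hS 0 hvan⟩).length_eq.symm

end Shift

end Groth.Agent.H98.Bass0
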