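import Groth.Agent.H98.Bass0.MuStep
import Groth.Agent.H98.Bass0.StarCount
import Groth.Agent.H98.GrStar.Devissage

set_option autoImplicit false
universe u

/-!
# Bass numbers at graded primes from a minimal *injective resolution
-/

namespace Groth.Agent.H98.Bass0

open IsLocalRing CategoryTheory Abelian Groth.Agent.H98.GrStar

section Res

variable {ι : Type} [AddCommGroup ι] [DecidableEq ι]
variable {R : Type u} [CommRing R] [IsNoetherianRing R] (𝒜 : ι → AddSubgroup R) [GradedRing 𝒜]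
variable (p : HomogeneousIdeal 𝒜) [p.toIdeal.IsPrime]

/-- `Ext^i_{R_p}(k(p), X_p) = 0` for `X` *injective and `i ≥ 1`. -/
theorem ext_res_subsingleton (X : GrLC.GMod.{u} 𝒜) (hX : GrLC.IsStarInj 𝒜 X.gr) (i : ℕ) (hi : 1 ≤ i) :
    Subsingleton (Ext.{u} (kObj p.toIdeal) (locObj p.toIdeal.primeCompl X.carrier) i) := by
  have hker : (LinearMap.ker (Submodule.mkQ p.toIdeal)).IsHomogeneous 𝒜 := by
    rw [Submodule.ker_mkQ]
    exact p.isHomogeneous
  let Q : GrLC.GMod.{u} 𝒜 := quotGMod 𝒜 𝒜 (Submodule.mkQ p.toIdeal)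
    (Submodule.mkQ_surjective _) hker
  have hfin : Module.Finite R Q.carrier :=
    Module.Finite.of_surjective (Submodule.mkQ p.toIdeal) (Submodule.mkQ_surjective _)
  have h1 := ext_loc_subsingleton 𝒜 X.gr p.toIdeal.primeCompl hX i hi Q hfin
  let e : locObj p.toIdeal.primeCompl (R ⧸ p.toIdeal) ≅ kObj p.toIdeal :=
    (locQuotEquivRes p.toIdeal).toModuleIso
  refine ⟨fun a b => ?_⟩
  have key : ∀ x : Ext.{u} (kObj p.toIdeal) (locObj p.toIdeal.primeCompl X.carrier) i, x = 0 := by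
    intro x
    have h2 : (Ext.mk₀ e.hom).comp x (zero_add i) = 0 := h1.elim _ _
    have h3 : x = (Ext.mk₀ e.inv).comp ((Ext.mk₀ e.hom).comp x (zero_add i)) (zero_add i) := by
      rw [Ext.mk₀_comp_mk₀_assoc, e.inv_hom_id, Ext.mk₀_id_comp]
    rw [h3, h2, Ext.comp_zero]
  rw [key a, key b]

variable {𝒜}
variable {M : Type u} [AddCommGroup M] [Module R M] {ℳ : ι → AddSubgroup M}
  [DirectSum.Decomposition ℳ] [SetLike.GradedSMul 𝒜 ℳ]
variable (E : GrLC.StarInjRes 𝒜 ℳ)

/-- the cycles of the resolution -/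
def ZZ (n : ℕ) : Submodule R (E.X n).carrier := LinearMap.ker (E.d n)

theorem d_mem_ZZ (n : ℕ) (x : (E.X n).carrier) : E.d n x ∈ ZZ E (n + 1) := by
  rw [ZZ, E.exact_succ n]
  exact ⟨x, rfl⟩

/-- the corestricted differential -/
def dZ (n : ℕ) : (E.X n).carrier →ₗ[R] ZZ E (n + 1) := (E.d n).codRestrict _ (d_mem_ZZ E n)

theorem dZ_surjective (n : ℕ) : Function.Surjective (dZ E n) := by
  rintro ⟨z, hz⟩
  rw [ZZ, E.exact_succ n] at hz
  obtain ⟨x, rfl⟩ := hz
  exact ⟨x, Subtype.ext rfl⟩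

theorem dZ_eq_zero_iff (n : ℕ) (x : (E.X n).carrier) : dZ E n x = 0 ↔ x ∈ ZZ E n := by
  constructor
  · intro h
    exact congrArg Subtype.val h
  · intro h
    exact Subtype.ext h

theorem exact_subtype_dZ (n : ℕ) : Function.Exact (ZZ E n).subtype (dZ E n) := by
  intro x
  rw [dZ_eq_zero_iff]
  constructor
  · intro h
    exact ⟨⟨x, h⟩, rfl⟩
  · rintro ⟨y, rfl⟩
    exact y.2

theorem exact_ε_dZ : Function.Exact E.ε (dZ E 0) := by
  intro x
  rw [dZ_eq_zero_iff, ZZ, E.exact_zero]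
  rfl

/-- the minimality hypotheses -/
structure IsMinimal : Prop where
  zero : ∀ P : Submodule R (E.X 0).carrier, P.IsHomogeneous (E.X 0).gr → P ≠ ⊥ →
    P ⊓ LinearMap.range E.ε ≠ ⊥
  succ : ∀ (n : ℕ) (P : Submodule R (E.X (n + 1)).carrier), P.IsHomogeneous (E.X (n + 1)).gr →
    P ≠ ⊥ → P ⊓ LinearMap.range (E.d n) ≠ ⊥

variable {E}

theorem IsMinimal.ess (hE : IsMinimal E) (n : ℕ) (x : (E.X n).carrier) (hx0 : x ≠ 0) :
    ∃ r : R, r • x ≠ 0 ∧ r • x ∈ ZZ E n := by
  cases n with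
  | zero =>
    rw [ZZ, E.exact_zero]
    exact exists_smul_mem_of_ess_in 𝒜 (E.X 0).gr (LinearMap.range E.ε) ⊤
      (range_isHomogeneous ℳ (E.X 0).gr E.ε E.ε_grHom) (top_isHomogeneous (E.X 0).gr) le_top
      (fun Q hQ _ hQ0 => hE.zero Q hQ hQ0) x Submodule.mem_top hx0
  | succ n =>
    rw [ZZ, E.exact_succ n]
    exact exists_smul_mem_of_ess_in 𝒜 (E.X (n + 1)).gr (LinearMap.range (E.d n)) ⊤
      (range_isHomogeneous (E.X n).gr (E.X (n + 1)).gr (E.d n) (E.d_grHom n))
      (top_isHomogeneous (E.X (n + 1)).gr) le_top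
      (fun Q hQ _ hQ0 => hE.succ n Q hQ hQ0) x Submodule.mem_top hx0

theorem IsMinimal.soc_le (hE : IsMinimal E) (n : ℕ) :
    soc (Localization.AtPrime p.toIdeal) (LocalizedModule p.toIdeal.primeCompl (E.X n).carrier) ≤
      LinearMap.range (LocalizedModule.map p.toIdeal.primeCompl (ZZ E n).subtype) := by
  apply soc_le_range_map p.toIdeal ((isNoetherianRing_iff_ideal_fg R).mp inferInstance _)
  intro y hy
  obtain ⟨r, h1, h2⟩ := hE.ess n y hy
  exact ⟨r, h1, by rw [Submodule.range_subtype]; exact h2⟩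

theorem IsMinimal.soc_le_ε (hE : IsMinimal E) :
    soc (Localization.AtPrime p.toIdeal) (LocalizedModule p.toIdeal.primeCompl (E.X 0).carrier) ≤
      LinearMap.range (LocalizedModule.map p.toIdeal.primeCompl E.ε) := by
  apply soc_le_range_map p.toIdeal ((isNoetherianRing_iff_ideal_fg R).mp inferInstance _)
  intro y hy
  obtain ⟨r, h1, h2⟩ := hE.ess 0 y hy
  rw [ZZ, E.exact_zero] at h2
  exact ⟨r, h1, h2⟩

variable (E) in
/-- the length of the socle of `(X^m)_p` -/
noncomputable def socLen (m : ℕ) : ℕ∞ :=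
  Module.length (Localization.AtPrime p.toIdeal)
    (soc (Localization.AtPrime p.toIdeal) (LocalizedModule p.toIdeal.primeCompl (E.X m).carrier))

theorem IsMinimal.length_ext_ZZ (hE : IsMinimal E) (j : ℕ) : ∀ n : ℕ,
    Module.length (Localization.AtPrime p.toIdeal)
      (Ext.{u} (kObj p.toIdeal) (locObj p.toIdeal.primeCompl (ZZ E n)) j) = socLen p E (n + j) := by
  induction j with
  | zero =>
    intro n
    rw [length_ext_zero]
    exact length_soc_eq_of_injective (LocalizedModule.map p.toIdeal.primeCompl (ZZ E n).subtype)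
      (LocalizedModule.map_injective _ _ (Submodule.injective_subtype _)) (hE.soc_le p n)
  | succ j ih =>
    intro n
    rw [length_ext_step p.toIdeal (ZZ E n).subtype (dZ E n) (Submodule.injective_subtype _)
      (dZ_surjective E n) (exact_subtype_dZ E n)
      (ext_res_subsingleton 𝒜 p (E.X n) (E.starInj n)) (hE.soc_le p n) j, ih (n + 1)]
    congr 1
    omega

theorem IsMinimal.bassNum_eq (hE : IsMinimal E) (j : ℕ) :
    GrLC.bassNum p.toIdeal M j = socLen p E j := by
  cases j with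
  | zero =>
    rw [bassNum_zero_eq_length_soc]
    exact length_soc_eq_of_injective (LocalizedModule.map p.toIdeal.primeCompl E.ε)
      (LocalizedModule.map_injective _ _ E.ε_injective) (hE.soc_le_ε p)
  | succ j =>
    rw [bassNum_eq_length, length_ext_step p.toIdeal E.ε (dZ E 0) E.ε_injective
      (dZ_surjective E 0) (exact_ε_dZ E)
      (ext_res_subsingleton 𝒜 p (E.X 0) (E.starInj 0)) (hE.soc_le_ε p) j,
      hE.length_ext_ZZ p j 1]
    congr 1
    omega

end Res

end Groth.Agent.H98.Bass0
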