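import Groth.Agent.H98.GrStar.Res
import Groth.Agent.H98.GrStar.Hull2
import Groth.Agent.H98.Bass0.MuRes

set_option autoImplicit false
universe u

/-!
# Minimal *injective resolutions exist
-/

namespace Groth.Agent.H98.Bass0

open Groth.Agent.H98.GrStar

section MinRes

variable {ι : Type} [AddCommGroup ι] [DecidableEq ι]
variable {R : Type u} [CommRing R] (𝒜 : ι → AddSubgroup R) [GradedRing 𝒜]

theorem range_comp_aux {A B C : Type u} [AddCommGroup A] [Module R A] [AddCommGroup B] [Module R B]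
    [AddCommGroup C] [Module R C] (π₀ : A →ₗ[R] B) (hsurj : Function.Surjective π₀)
    (emb : B →ₗ[R] C) : LinearMap.range (emb ∘ₗ π₀) = LinearMap.range emb := by
  rw [LinearMap.range_comp_of_range_eq_top _ (LinearMap.range_eq_top.mpr hsurj)]

/-- one step of a minimal resolution: a *injective hull together with its cokernel -/
structure MinStep (C : GrLC.GMod.{u} 𝒜) where
  X : GrLC.GMod.{u} 𝒜
  emb : C.carrier →ₗ[R] X.carrier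
  hull : GrLC.IsStarInjHull 𝒜 C.gr X.gr emb
  Q : GrLC.GMod.{u} 𝒜
  π : X.carrier →ₗ[R] Q.carrier
  π_gr : GrLC.IsGrHom X.gr Q.gr π
  π_surj : Function.Surjective π
  π_ker : LinearMap.ker π = LinearMap.range emb

theorem nonempty_minStep (C : GrLC.GMod.{u} 𝒜) : Nonempty (MinStep 𝒜 C) := by
  obtain ⟨X, emb, h⟩ := exists_isStarInjHull 𝒜 C.gr
  obtain ⟨Q, π, h4, h5, h6⟩ := exists_quot 𝒜 X.gr (LinearMap.range emb)
    (range_isHomogeneous C.gr X.gr emb h.grHom)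
  exact ⟨⟨X, emb, h, Q, π, h4, h5, h6⟩⟩

/-- a chosen step -/
noncomputable def minStep (C : GrLC.GMod.{u} 𝒜) : MinStep 𝒜 C := (nonempty_minStep 𝒜 C).some

/-- the successive cokernels -/
noncomputable def minCokSeq (C : GrLC.GMod.{u} 𝒜) : ℕ → GrLC.GMod.{u} 𝒜
  | 0 => C
  | n + 1 => (minStep 𝒜 (minCokSeq C n)).Q

variable {M : Type u} [AddCommGroup M] [Module R M] (ℳ : ι → AddSubgroup M)
  [DirectSum.Decomposition ℳ] [SetLike.GradedSMul 𝒜 ℳ]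

/-- the minimal *injective resolution -/
noncomputable def minRes : GrLC.StarInjRes 𝒜 ℳ where
  X n := (minStep 𝒜 (minCokSeq 𝒜 (GrLC.GMod.of 𝒜 M ℳ) n)).X
  d n := (minStep 𝒜 (minCokSeq 𝒜 (GrLC.GMod.of 𝒜 M ℳ) (n + 1))).emb ∘ₗ
    (minStep 𝒜 (minCokSeq 𝒜 (GrLC.GMod.of 𝒜 M ℳ) n)).π
  ε := (minStep 𝒜 (minCokSeq 𝒜 (GrLC.GMod.of 𝒜 M ℳ) 0)).emb
  d_grHom n := fun i x hx =>
    (minStep 𝒜 (minCokSeq 𝒜 (GrLC.GMod.of 𝒜 M ℳ) (n + 1))).hull.grHom i _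
      ((minStep 𝒜 (minCokSeq 𝒜 (GrLC.GMod.of 𝒜 M ℳ) n)).π_gr i x hx)
  ε_grHom := (minStep 𝒜 (minCokSeq 𝒜 (GrLC.GMod.of 𝒜 M ℳ) 0)).hull.grHom
  ε_injective := (minStep 𝒜 (minCokSeq 𝒜 (GrLC.GMod.of 𝒜 M ℳ) 0)).hull.injective
  exact_zero := exact_zero_aux _ _ _ (minStep 𝒜 (minCokSeq 𝒜 (GrLC.GMod.of 𝒜 M ℳ) 0)).π_ker
    (minStep 𝒜 (minCokSeq 𝒜 (GrLC.GMod.of 𝒜 M ℳ) (0 + 1))).hull.injective
  exact_succ n := exact_succ_aux _ (minStep 𝒜 (minCokSeq 𝒜 (GrLC.GMod.of 𝒜 M ℳ) n)).π_surj _ _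
    (minStep 𝒜 (minCokSeq 𝒜 (GrLC.GMod.of 𝒜 M ℳ) (n + 1))).π_ker _
    (minStep 𝒜 (minCokSeq 𝒜 (GrLC.GMod.of 𝒜 M ℳ) (n + 1 + 1))).hull.injective
  starInj n := (minStep 𝒜 (minCokSeq 𝒜 (GrLC.GMod.of 𝒜 M ℳ) n)).hull.starInj

theorem minRes_isMinimal : IsMinimal (minRes 𝒜 ℳ) where
  zero := (minStep 𝒜 (minCokSeq 𝒜 (GrLC.GMod.of 𝒜 M ℳ) 0)).hull.essential
  succ n P hP hP0 := by
    have h := (minStep 𝒜 (minCokSeq 𝒜 (GrLC.GMod.of 𝒜 M ℳ) (n + 1))).hull.essential P hP hP0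
    have hr : LinearMap.range ((minRes 𝒜 ℳ).d n) =
        LinearMap.range (minStep 𝒜 (minCokSeq 𝒜 (GrLC.GMod.of 𝒜 M ℳ) (n + 1))).emb :=
      range_comp_aux _ (minStep 𝒜 (minCokSeq 𝒜 (GrLC.GMod.of 𝒜 M ℳ) n)).π_surj _
    rw [hr]
    exact h

end MinRes

end Groth.Agent.H98.Bass0
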