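import Groth.Agent.H98.GrStar.Shift
import Groth.Agent.H98.GrStar.Self
import Groth.Agent.H98.GrStar.Hull1

set_option autoImplicit false
universe u

/-!
# Uniqueness of *injective hulls up to shift
-/

namespace Groth.Agent.H98.Bass0

open Groth.Agent.H98.GrStar

section ShiftHull

variable {ι : Type} [AddCommGroup ι] [DecidableEq ι]
variable {R : Type u} [CommRing R] (𝒜 : ι → AddSubgroup R) [GradedRing 𝒜]

theorem decompose_eq_of_shift {M : Type u} [AddCommGroup M] (ℳ 𝒩 : ι → AddSubgroup M)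
    [DirectSum.Decomposition ℳ] [DirectSum.Decomposition 𝒩] (g : ι) (h : ∀ k, 𝒩 k = ℳ (k - g))
    (x : M) (k : ι) :
    ((DirectSum.decompose 𝒩 x k : 𝒩 k) : M) = ((DirectSum.decompose ℳ x (k - g) : ℳ (k - g)) : M) := by
  classical
  induction x using DirectSum.Decomposition.inductionOn ℳ with
  | zero =>
    rw [DirectSum.decompose_zero, DirectSum.decompose_zero]
    rfl
  | @homogeneous i y =>
    have hmem : (y : M) ∈ 𝒩 (i + g) := by
      rw [h, add_sub_cancel_right]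
      exact y.2
    by_cases hk : k = i + g
    · subst hk
      rw [DirectSum.decompose_of_mem_same _ hmem]
      have h2 : (y : M) ∈ ℳ (i + g - g) := by rw [add_sub_cancel_right]; exact y.2
      rw [DirectSum.decompose_of_mem_same _ h2]
    · have hne : i + g ≠ k := fun h => hk h.symm
      rw [DirectSum.decompose_of_mem_ne _ hmem hne]
      have hne2 : i ≠ k - g := by
        intro h
        apply hk
        rw [h, sub_add_cancel]
      rw [DirectSum.decompose_of_mem_ne _ y.2 hne2]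
  | add a b ha hb =>
    rw [DirectSum.decompose_add, DirectSum.decompose_add, DirectSum.add_apply, DirectSum.add_apply,
      AddSubgroup.coe_add, AddSubgroup.coe_add, ha, hb]

theorem isHomogeneous_of_shift' {M : Type u} [AddCommGroup M] [Module R M]
    (ℳ 𝒩 : ι → AddSubgroup M)
    [DirectSum.Decomposition ℳ] [DirectSum.Decomposition 𝒩] (g : ι) (h : ∀ k, 𝒩 k = ℳ (k - g))
    (P : Submodule R M) (hP : P.IsHomogeneous 𝒩) : P.IsHomogeneous ℳ := by
  intro i x hx
  have h1 := hP (i + g) hx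
  rw [decompose_eq_of_shift ℳ 𝒩 g h, add_sub_cancel_right] at h1
  exact h1

variable [IsNoetherianRing R]

/-- two *injective hulls of `R ⧸ p`, one of them shifted by `g₀`, are isomorphic by a map
homogeneous of degree `-g₀` -/
theorem exists_equiv_of_shift_hull (p : HomogeneousIdeal 𝒜) (g₀ : ι) (Xh : GrLC.GMod.{u} 𝒜)
    (f : (R ⧸ p.toIdeal) →ₗ[R] Xh.carrier)
    (hf : GrLC.IsStarInjHull 𝒜 (fun j : ι => GrLC.quotGr 𝒜 p (j - g₀)) Xh.gr f)
    {E' : Type u} [AddCommGroup E'] [Module R E'] (𝓔 : ι → AddSubgroup E')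
    [DirectSum.Decomposition 𝓔] [SetLike.GradedSMul 𝒜 𝓔] (e : (R ⧸ p.toIdeal) →ₗ[R] E')
    (he : GrLC.IsStarInjHull 𝒜 (GrLC.quotGr 𝒜 p) 𝓔 e) :
    ∃ β : Xh.carrier ≃ₗ[R] E', ∀ (j : ι) (x : Xh.carrier), x ∈ Xh.gr j → β x ∈ 𝓔 (j - g₀) := by
  let Y : GrLC.GMod.{u} 𝒜 := shiftGMod 𝒜 Xh (-g₀)
  let Q : GrLC.GMod.{u} 𝒜 := quotIdealGMod 𝒜 p
  let f' : Q.carrier →ₗ[R] Y.carrier := f
  let e' : Q.carrier →ₗ[R] E' := e
  have hYinj : GrLC.IsStarInj 𝒜 Y.gr :=
    isStarInj_of_shift_equiv 𝒜 Xh.gr hf.starInj Y (-g₀) (LinearEquiv.refl R Xh.carrier)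
      (fun k y => Iff.rfl)
  have hfY : GrLC.IsStarEss Q.gr Y.gr f' := by
    refine ⟨hf.injective, ?_, ?_⟩
    · intro k y hy
      have h1 : y ∈ GrLC.quotGr 𝒜 p (k - -g₀ - g₀) := by
        have : k - -g₀ - g₀ = k := by abel
        rw [this]
        exact hy
      exact hf.grHom (k - -g₀) y h1
    · intro P hP hP0
      exact hf.essential P (@isHomogeneous_of_shift' ι _ _ R _ Xh.carrier _ _ Xh.gr Y.gr _ Y.dec
        (-g₀) (fun k => rfl) P hP) hP0
  have he' : GrLC.IsGrHom Q.gr 𝓔 e' := he.grHom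
  -- the comparison map
  obtain ⟨β, hβ, hβf⟩ : ∃ β : Y.carrier →ₗ[R] E', GrLC.IsGrHom Y.gr 𝓔 β ∧ β ∘ₗ f' = e' :=
    he.starInj Q Y f' hfY.grHom hfY.injective e' he'
  have hβinj : Function.Injective β := by
    apply injective_of_comp_injective Q.gr Y.gr 𝓔 f' hfY β hβ
    rw [hβf]
    exact he.injective
  have hβess : GrLC.IsStarEss Y.gr 𝓔 β := by
    refine ⟨hβinj, hβ, ?_⟩
    intro P hPh hPne
    have := he.essential P hPh hPne
    intro h0
    apply this
    rw [eq_bot_iff, ← h0]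
    apply inf_le_inf_left
    have h2 : LinearMap.range e' ≤ LinearMap.range β := by
      rw [← hβf]
      exact LinearMap.range_comp_le_range f' β
    exact h2
  have hβsurj := surjective_of_isStarInj 𝒜 Y.gr 𝓔 hYinj β hβess
  refine ⟨LinearEquiv.ofBijective β ⟨hβinj, hβsurj⟩, ?_⟩
  intro j x hx
  change β x ∈ 𝓔 (j - g₀)
  apply hβ (j - g₀) x
  change x ∈ Xh.gr (j - g₀ - -g₀)
  have : j - g₀ - -g₀ = j := by abel
  rw [this]
  exact hx

end ShiftHull

end Groth.Agent.H98.Bass0
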