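import Groth.Agent.H98.Bass0.StarLocalSoc2
import Groth.Agent.H98.Bass0.ShiftHull
import Groth.Agent.H98.Bass0.MinRes
import Groth.Agent.H98.Bass0.GorBass
import Groth.Agent.H98.GrStar.GrLES2

set_option autoImplicit false
universe u

/-!
# Top graded local cohomology of a Gorenstein *local ring
-/

namespace Groth.Agent.H98.Bass0

open IsLocalRing Groth.Agent.H98.GrStar

section L5

variable {ι : Type} [AddCommGroup ι] [DecidableEq ι]
variable {R : Type u} [CommRing R] {𝒜 : ι → AddSubgroup R} [GradedRing 𝒜]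
variable {M : Type u} [AddCommGroup M] [Module R M] {ℳ : ι → AddSubgroup M}
  [DirectSum.Decomposition ℳ] [SetLike.GradedSMul 𝒜 ℳ]
variable (E : GrLC.StarInjRes 𝒜 ℳ) (a : HomogeneousIdeal 𝒜) (i : ℕ)

theorem cocyc_eq_gam (hnext : GrLC.gam a.toIdeal (E.X (i + 1)).carrier = ⊥) :
    E.cocyc a i = GrLC.gam a.toIdeal (E.X i).carrier := by
  apply le_antisymm inf_le_left
  intro x hx
  refine ⟨hx, ?_⟩
  have h1 : E.d i x ∈ GrLC.gam a.toIdeal (E.X (i + 1)).carrier := by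
    obtain ⟨k, hk⟩ := hx
    exact ⟨k, fun r hr => by rw [← map_smul, hk r hr, map_zero]⟩
  rw [hnext, Submodule.mem_bot] at h1
  exact h1

theorem cobdy_eq_bot (hprev : ∀ j, j + 1 = i → GrLC.gam a.toIdeal (E.X j).carrier = ⊥) :
    E.cobdy a i = ⊥ := by
  cases i with
  | zero => rfl
  | succ j =>
    change (GrLC.gam a.toIdeal (E.X j).carrier).map (E.d j) = ⊥
    rw [hprev j rfl, Submodule.map_bot]

/-- `H^i = Γ_a(X^i)` when the neighbouring torsion parts vanish -/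
noncomputable def HEquivGam (hnext : GrLC.gam a.toIdeal (E.X (i + 1)).carrier = ⊥)
    (hprev : ∀ j, j + 1 = i → GrLC.gam a.toIdeal (E.X j).carrier = ⊥) :
    E.H a i ≃ₗ[R] GrLC.gam a.toIdeal (E.X i).carrier :=
  (Submodule.quotEquivOfEqBot _ (by
    rw [cobdy_eq_bot E a i hprev, Submodule.comap_bot]
    exact LinearMap.ker_eq_bot.mpr (Submodule.injective_subtype _))).trans
    (LinearEquiv.ofEq _ _ (cocyc_eq_gam E a i hnext))

theorem HEquivGam_mem (hnext : GrLC.gam a.toIdeal (E.X (i + 1)).carrier = ⊥)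
    (hprev : ∀ j, j + 1 = i → GrLC.gam a.toIdeal (E.X j).carrier = ⊥) (g : ι) (x : E.H a i)
    (hx : x ∈ E.Hgr a i g) :
    ((HEquivGam E a i hnext hprev x : GrLC.gam a.toIdeal (E.X i).carrier) : (E.X i).carrier) ∈
      (E.X i).gr g := by
  obtain ⟨z, hz, rfl⟩ := hx
  exact hz

end L5

section L6

variable {ι : Type} [AddCommGroup ι] [DecidableEq ι]
variable {R : Type u} [CommRing R] [IsNoetherianRing R] (𝒜 : ι → AddSubgroup R) [GradedRing 𝒜]
variable {m : HomogeneousIdeal 𝒜} (hm : GrLC.IsStarLocal 𝒜 m) [m.toIdeal.IsPrime]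
variable (Z : GrLC.GMod.{u} 𝒜) (hZ : GrLC.IsStarInj 𝒜 Z.gr)

include hm hZ in
/-- (L6) if the socle of `Z_m` is simple, `Γ_m(Z)` is a shifted copy of `*E(R/m)` -/
theorem exists_hull_eq_gam
    (hsimple : IsSimpleModule (Localization.AtPrime m.toIdeal)
      (soc (Localization.AtPrime m.toIdeal) (LocalizedModule m.toIdeal.primeCompl Z.carrier))) :
    ∃ (g₀ : ι) (Xh : GrLC.GMod.{u} 𝒜) (f : (R ⧸ m.toIdeal) →ₗ[R] Xh.carrier)
      (ψ : Xh.carrier →ₗ[R] Z.carrier),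
      GrLC.IsStarInjHull 𝒜 (fun j : ι => GrLC.quotGr 𝒜 m (j - g₀)) Xh.gr f ∧
        Function.Injective ψ ∧ GrLC.IsGrHom Xh.gr Z.gr ψ ∧
        LinearMap.range ψ = GrLC.gam m.toIdeal Z.carrier := by
  classical
  -- a nonzero element of the socle
  have : Nontrivial ↥(soc (Localization.AtPrime m.toIdeal)
      (LocalizedModule m.toIdeal.primeCompl Z.carrier)) :=
    IsSimpleModule.nontrivial (Localization.AtPrime m.toIdeal) _
  obtain ⟨⟨x, hxs⟩, hx0⟩ := exists_ne (0 : soc (Localization.AtPrime m.toIdeal)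
    (LocalizedModule m.toIdeal.primeCompl Z.carrier))
  have hx0' : x ≠ 0 := fun h => hx0 (Subtype.ext h)
  obtain ⟨y, s, _, hmy, hty⟩ := exists_rep_of_mem_soc m.toIdeal
    ((isNoetherianRing_iff_ideal_fg R).mp inferInstance _) x hxs hx0'
  have hy0 : y ≠ 0 := by
    intro h
    apply hty 1 (fun h1 => (Ideal.ne_top_iff_one m.toIdeal).mp (Ideal.IsPrime.ne_top ‹_›) h1)
    rw [h, smul_zero]
  have hgam : GrLC.gam m.toIdeal Z.carrier ≠ ⊥ := by
    intro h
    apply hy0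
    have : y ∈ GrLC.gam m.toIdeal Z.carrier := ⟨1, fun r hr => hmy r (by rwa [pow_one] at hr)⟩
    rwa [h, Submodule.mem_bot] at this
  obtain ⟨g₀, y₀, hy₀, hy₀0, hmy₀⟩ := exists_homogeneous_socle 𝒜 Z.gr hgam
  have hann := annihilator_eq_of_isStarLocal 𝒜 hm Z.gr hy₀ hy₀0 hmy₀
  obtain ⟨Xh, f, ψ, Q, hf, hψinj, hψgr, hψf, hQ, hcompl⟩ :=
    exists_summand 𝒜 Z.gr hZ m g₀ y₀ hy₀ hann
  refine ⟨g₀, Xh, f, ψ, hf, hψinj, hψgr, ?_⟩
  -- `Xh` is `m`-torsion
  have hess : InjHull.IsEssentialInj f :=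
    isEssentialInj_of_isStarEss 𝒜 (shiftGMod 𝒜 (quotIdealGMod 𝒜 m) g₀).gr Xh.gr f hf.toIsStarEss
  have htors := gam_eq_top_of_ess m.toIdeal f hess
  have hle : LinearMap.range ψ ≤ GrLC.gam m.toIdeal Z.carrier := by
    rintro _ ⟨z, rfl⟩
    have hz : z ∈ GrLC.gam m.toIdeal Xh.carrier := by rw [htors]; exact Submodule.mem_top
    obtain ⟨k, hk⟩ := hz
    exact ⟨k, fun r hr => by rw [← map_smul, hk r hr, map_zero]⟩
  apply le_antisymm hle
  intro x hx
  have htop : x ∈ LinearMap.range ψ ⊔ Q := by rw [hcompl.sup_eq_top]; exact Submodule.mem_top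
  obtain ⟨h, hh, q, hq, rfl⟩ := Submodule.mem_sup.mp htop
  have hqgam : q ∈ GrLC.gam m.toIdeal Z.carrier := by
    have : q = (h + q) - h := by abel
    rw [this]
    exact Submodule.sub_mem _ hx (hle hh)
  have hq0 : q = 0 := by
    by_contra hq0
    have hne : GrLC.gam m.toIdeal Z.carrier ⊓ Q ≠ ⊥ := by
      intro hbot
      have : q ∈ GrLC.gam m.toIdeal Z.carrier ⊓ Q := ⟨hqgam, hq⟩
      rw [hbot, Submodule.mem_bot] at this
      exact hq0 this
    obtain ⟨g', y', hy', hy'Q, hy'0, hmy'⟩ := exists_homogeneous_socle_in 𝒜 Z.gr Q hQ hne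
    obtain ⟨h1, h2⟩ := mk_mem_soc_of_isStarLocal 𝒜 hm Z.gr hy₀ hy₀0 hmy₀
    obtain ⟨h3, _⟩ := mk_mem_soc_of_isStarLocal 𝒜 hm Z.gr hy' hy'0 hmy'
    have hv0 : (⟨_, h1⟩ : soc (Localization.AtPrime m.toIdeal)
        (LocalizedModule m.toIdeal.primeCompl Z.carrier)) ≠ 0 := fun h => h2 (congrArg Subtype.val h)
    obtain ⟨a, ha⟩ := IsSimpleModule.toSpanSingleton_surjective (Localization.AtPrime m.toIdeal) hv0
      (⟨_, h3⟩ : soc (Localization.AtPrime m.toIdeal)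
        (LocalizedModule m.toIdeal.primeCompl Z.carrier))
    have ha' : (LocalizedModule.mk y' 1 : LocalizedModule m.toIdeal.primeCompl Z.carrier) =
        a • LocalizedModule.mk y₀ 1 := by
      have := congrArg Subtype.val ha
      exact this.symm
    have hspan := mem_span_of_mk_eq_smul 𝒜 hm Z.gr hy₀ hy' hmy' a ha'
    have hy'ψ : y' ∈ LinearMap.range ψ := by
      obtain ⟨c, rfl⟩ := Submodule.mem_span_singleton.mp hspan
      rw [← hψf, ← map_smul]
      exact ⟨_, rfl⟩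
    have : y' ∈ LinearMap.range ψ ⊓ Q := ⟨hy'ψ, hy'Q⟩
    rw [hcompl.inf_eq_bot, Submodule.mem_bot] at this
    exact hy'0 this
  rw [hq0, add_zero]
  exact hh

end L6

end Groth.Agent.H98.Bass0
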