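import Groth.Agent.H98.Bass0.LocSoc

set_option autoImplicit false
universe u v w

namespace Groth.Agent.H98.Bass0

open IsLocalRing

section Indep

variable {R : Type u} [CommRing R] {N : Type v} [AddCommGroup N] [Module R N]
variable {I : Type w}

theorem sum_eq_zero_of_indep (J : I → Submodule R N) (hind : iSupIndep J) (T : Finset I)
    (z : I → N) (hz : ∀ i ∈ T, z i ∈ J i) (hsum : ∑ i ∈ T, z i = 0) : ∀ i ∈ T, z i = 0 := by
  classical
  intro i hi
  have h1 : z i + ∑ k ∈ T.erase i, z k = 0 := by
    rw [Finset.add_sum_erase T z hi]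
    exact hsum
  have h2 : z i = -∑ k ∈ T.erase i, z k := eq_neg_of_add_eq_zero_left h1
  have h3 : ∑ k ∈ T.erase i, z k ∈ ⨆ (k) (_ : k ≠ i), J k := by
    apply Submodule.sum_mem
    intro k hk
    have hki : k ≠ i := Finset.ne_of_mem_erase hk
    exact Submodule.mem_iSup_of_mem k (Submodule.mem_iSup_of_mem hki (hz k (Finset.mem_of_mem_erase hk)))
  have h4 : z i ∈ ⨆ (k) (_ : k ≠ i), J k := by
    rw [h2]
    exact Submodule.neg_mem _ h3
  exact Submodule.disjoint_def.mp (hind i) (z i) (hz i hi) h4

variable (p : Ideal R) [p.IsPrime]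

theorem loc_sum_eq_zero_of_indep (J : I → Submodule R N) (hind : iSupIndep J) (T : Finset I)
    (z : I → N) (hz : ∀ i ∈ T, z i ∈ J i) (a : I → Localization.AtPrime p)
    (hsum : ∑ i ∈ T, a i • (LocalizedModule.mk (z i) 1 : LocalizedModule p.primeCompl N) = 0) :
    ∀ i ∈ T, a i • (LocalizedModule.mk (z i) 1 : LocalizedModule p.primeCompl N) = 0 := by
  classical
  obtain ⟨s, hs⟩ := IsLocalization.exist_integer_multiples_of_finset p.primeCompl (T.image a)
  have hs' : ∀ i ∈ T, ∃ r : R, algebraMap R (Localization.AtPrime p) r = (s : R) • a i := by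
    intro i hi
    exact hs (a i) (Finset.mem_image_of_mem a hi)
  choose! r hr using hs'
  have h1 : ∀ i ∈ T, (s : R) • (a i • (LocalizedModule.mk (z i) 1 : LocalizedModule p.primeCompl N))
      = LocalizedModule.mk (r i • z i) 1 := by
    intro i hi
    rw [← smul_assoc, ← hr i hi, algebraMap_smul_mk]
  have h2 : (LocalizedModule.mk (∑ i ∈ T, r i • z i) 1 : LocalizedModule p.primeCompl N) = 0 := by
    have : (LocalizedModule.mk (∑ i ∈ T, r i • z i) 1 : LocalizedModule p.primeCompl N)
        = ∑ i ∈ T, LocalizedModule.mk (r i • z i) 1 := by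
      change LocalizedModule.mkLinearMap p.primeCompl N (∑ i ∈ T, r i • z i) = _
      rw [map_sum]
      rfl
    rw [this, ← Finset.sum_congr rfl h1, ← Finset.smul_sum, hsum, smul_zero]
  rw [mk_eq_zero_iff'] at h2
  obtain ⟨t, ht, hzero⟩ := h2
  rw [Finset.smul_sum] at hzero
  have h3 := sum_eq_zero_of_indep J hind T (fun i => t • r i • z i)
    (fun i hi => Submodule.smul_mem _ _ (Submodule.smul_mem _ _ (hz i hi))) hzero
  intro i hi
  have h4 : (LocalizedModule.mk (r i • z i) 1 : LocalizedModule p.primeCompl N) = 0 := by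
    rw [mk_eq_zero_iff']
    exact ⟨t, ht, h3 i hi⟩
  have h5 := h1 i hi
  rw [h4] at h5
  have hinj := IsLocalizedModule.smul_injective (LocalizedModule.mkLinearMap p.primeCompl N) s
  apply hinj
  change (s : R) • (a i • (LocalizedModule.mk (z i) 1 : LocalizedModule p.primeCompl N)) =
    (s : R) • (0 : LocalizedModule p.primeCompl N)
  rw [h5, smul_zero]

end Indep

end Groth.Agent.H98.Bass0
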