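import Groth.Agent.H98.Bass0.StarCount
import Groth.Prelude.Def_GrLC2

set_option autoImplicit false
universe u

namespace Groth.Agent.H98.Bass0

open IsLocalRing Groth.Agent.H98.GrStar CategoryTheory

section Mu0

variable {R : Type u} [CommRing R] (p : Ideal R) [p.IsPrime]
variable (M : Type u) [AddCommGroup M] [Module R M]

/-- `μ^0(p, M)` is the length of the socle of `M_p`. -/
theorem bassNum_zero_eq_length_soc :
    GrLC.bassNum p M 0 = Module.length (Localization.AtPrime p)
      (soc (Localization.AtPrime p) (LocalizedModule p.primeCompl M)) := by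
  unfold GrLC.bassNum GrLC.bassNumLocal
  rw [(Abelian.Ext.linearEquiv₀ (R := Localization.AtPrime p)).length_eq,
    (ModuleCat.homLinearEquiv (S := Localization.AtPrime p)).length_eq]
  exact length_hom_residue

end Mu0

end Groth.Agent.H98.Bass0
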