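import Groth.Agent.H98.Bass0.ExtLoc
import Groth.Agent.H98.Bass0.ExtShift
import Groth.Agent.H98.Bass0.ResField
import Groth.Agent.H98.Bass0.Mu0

set_option autoImplicit false
universe u

/-!
# Bass numbers along a short exact sequence with acyclic, essential middle term
-/

namespace Groth.Agent.H98.Bass0

open IsLocalRing CategoryTheory Abelian Groth.Agent.H98.GrStar

section Step

variable {R : Type u} [CommRing R] (p : Ideal R) [p.IsPrime]

/-- the residue field as an object of `ModuleCat R_p` -/
noncomputable abbrev kObj : ModuleCat.{u} (Localization.AtPrime p) :=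
  ModuleCat.of (Localization.AtPrime p) (ResidueField (Localization.AtPrime p))

theorem length_ext_zero (W : Type u) [AddCommGroup W] [Module (Localization.AtPrime p) W] :
    Module.length (Localization.AtPrime p) (Ext.{u} (kObj p) (ModuleCat.of (Localization.AtPrime p) W) 0)
      = Module.length (Localization.AtPrime p) (soc (Localization.AtPrime p) W) := by
  rw [(Abelian.Ext.linearEquiv₀ (R := Localization.AtPrime p)).length_eq,
    (ModuleCat.homLinearEquiv (S := Localization.AtPrime p)).length_eq]
  exact length_hom_residue

theorem bassNum_eq_length (M : Type u) [AddCommGroup M] [Module R M] (j : ℕ) :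
    GrLC.bassNum p M j = Module.length (Localization.AtPrime p)
      (Ext.{u} (kObj p) (locObj p.primeCompl M) j) := rfl

variable {B X B' : Type u} [AddCommGroup B] [Module R B] [AddCommGroup X] [Module R X]
  [AddCommGroup B'] [Module R B']

theorem hom_comp_eq_zero (u : B →ₗ[R] X) (v : X →ₗ[R] B') (hex : Function.Exact u v)
    (hsoc : soc (Localization.AtPrime p) (LocalizedModule p.primeCompl X) ≤
      LinearMap.range (LocalizedModule.map p.primeCompl u))
    (φ : kObj p ⟶ (locSC p.primeCompl u v hex.linearMap_comp_eq_zero).X₂) :
    φ ≫ (locSC p.primeCompl u v hex.linearMap_comp_eq_zero).g = 0 := by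
  ext z
  have hz : φ.hom z ∈ soc (Localization.AtPrime p) (LocalizedModule p.primeCompl X) := by
    rw [mem_soc_iff]
    intro a ha
    obtain ⟨b, rfl⟩ := residue_surjective z
    rw [← map_smul]
    have : a • residue (Localization.AtPrime p) b = 0 := by
      rw [Algebra.smul_def, ResidueField.algebraMap_eq, ← map_mul]
      exact (residue_eq_zero_iff _).mpr (Ideal.mul_mem_right _ _ ha)
    rw [this, map_zero]
  obtain ⟨b, hb⟩ := hsoc hz
  change LocalizedModule.map p.primeCompl v (φ.hom z) = 0
  rw [← hb]
  have := LinearMap.congr_fun (map_comp_map p.primeCompl u v) b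
  rw [LinearMap.comp_apply] at this
  rw [this, hex.linearMap_comp_eq_zero, map_zero, LinearMap.zero_apply]

theorem length_ext_step (u : B →ₗ[R] X) (v : X →ₗ[R] B') (hu : Function.Injective u)
    (hv : Function.Surjective v) (hex : Function.Exact u v)
    (hvan : ∀ i : ℕ, 1 ≤ i → Subsingleton (Ext.{u} (kObj p) (locObj p.primeCompl X) i))
    (hsoc : soc (Localization.AtPrime p) (LocalizedModule p.primeCompl X) ≤
      LinearMap.range (LocalizedModule.map p.primeCompl u)) (j : ℕ) :
    Module.length (Localization.AtPrime p) (Ext.{u} (kObj p) (locObj p.primeCompl B) (j + 1)) =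
      Module.length (Localization.AtPrime p) (Ext.{u} (kObj p) (locObj p.primeCompl B') j) := by
  have hS := locSC_shortExact p.primeCompl u v hu hv hex
  cases j with
  | zero =>
    exact length_ext_one hS (hvan 1 le_rfl) (hom_comp_eq_zero p u v hex hsoc)
  | succ j =>
    exact length_ext_succ hS (j + 1) (by omega) hvan

end Step

end Groth.Agent.H98.Bass0
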