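import Mathlib

set_option autoImplicit false
universe u v

namespace Groth.Agent.H98.Bass0

open IsLocalRing

section General

variable (A : Type u) [CommRing A] [IsLocalRing A] (W : Type v) [AddCommGroup W] [Module A W]

/-- the socle of a module over a local ring -/
def soc : Submodule A W := Submodule.torsionBySet A W (maximalIdeal A : Set A)

variable {A W}

theorem mem_soc_iff {x : W} : x ∈ soc A W ↔ ∀ a ∈ maximalIdeal A, a • x = 0 := by
  unfold soc
  rw [Submodule.mem_torsionBySet_iff]
  constructor
  · intro h a ha
    exact h ⟨a, ha⟩
  · intro h a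
    exact h a a.2

theorem residue_smul_one (a : A) : a • (1 : ResidueField A) = residue A a := by
  rw [Algebra.smul_def, mul_one]
  rfl

variable (A W) in
/-- evaluation at `1` from `Hom(k, W)` to the socle -/
noncomputable def evalOne : (ResidueField A →ₗ[A] W) →ₗ[A] W :=
  LinearMap.applyₗ (1 : ResidueField A)

theorem evalOne_apply (φ : ResidueField A →ₗ[A] W) : evalOne A W φ = φ 1 := rfl

theorem evalOne_injective : Function.Injective (evalOne A W) := by
  intro φ ψ h
  apply LinearMap.ext
  intro z
  obtain ⟨a, rfl⟩ := residue_surjective z
  rw [← residue_smul_one, map_smul, map_smul]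
  rw [evalOne_apply, evalOne_apply] at h
  rw [h]

theorem range_evalOne : LinearMap.range (evalOne A W) = soc A W := by
  apply le_antisymm
  · rintro _ ⟨φ, rfl⟩
    rw [mem_soc_iff]
    intro a ha
    rw [evalOne_apply, ← map_smul, residue_smul_one, (residue_eq_zero_iff a).mpr ha, map_zero]
  · intro x hx
    rw [mem_soc_iff] at hx
    have hle : (maximalIdeal A : Submodule A A) ≤ LinearMap.ker (LinearMap.toSpanSingleton A W x) := by
      intro a ha
      rw [LinearMap.mem_ker, LinearMap.toSpanSingleton_apply]
      exact hx a ha
    refine ⟨Submodule.liftQ (maximalIdeal A) (LinearMap.toSpanSingleton A W x) hle, ?_⟩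
    change (LinearMap.toSpanSingleton A W x) (1 : A) = x
    rw [LinearMap.toSpanSingleton_apply, one_smul]

theorem length_hom_residue :
    Module.length A (ResidueField A →ₗ[A] W) = Module.length A (soc A W) := by
  rw [← range_evalOne]
  exact (LinearEquiv.ofInjective (evalOne A W) evalOne_injective).length_eq

instance : IsSimpleModule A (ResidueField A) :=
  isSimpleModule_iff_quot_maximal.mpr ⟨maximalIdeal A, inferInstance, ⟨LinearEquiv.refl A _⟩⟩

/-- an injective map carries the socle onto the socle if the socle of the target is in the range -/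
theorem length_soc_eq_of_injective {W' : Type v} [AddCommGroup W'] [Module A W']
    (g : W →ₗ[A] W') (hg : Function.Injective g) (hle : soc A W' ≤ LinearMap.range g) :
    Module.length A (soc A W) = Module.length A (soc A W') := by
  have hmap : (soc A W).map g = soc A W' := by
    apply le_antisymm
    · rintro _ ⟨x, hx, rfl⟩
      rw [SetLike.mem_coe, mem_soc_iff] at hx
      rw [mem_soc_iff]
      intro a ha
      rw [← map_smul, hx a ha, map_zero]
    · intro y hy
      obtain ⟨x, rfl⟩ := hle hy
      refine ⟨x, ?_, rfl⟩
      rw [SetLike.mem_coe, mem_soc_iff]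
      rw [mem_soc_iff] at hy
      intro a ha
      apply hg
      rw [map_smul, hy a ha, map_zero]
  rw [← hmap]
  exact (Submodule.equivMapOfInjective g hg (soc A W)).length_eq

end General

end Groth.Agent.H98.Bass0
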